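import Cfsg.Agent.H383.Cube.Num
import Cfsg.Agent.H986.EqD.CubeSB

/-!
# Numerical inequalities for S5721: the induction steps (task of helper383)
-/

set_option autoImplicit false

namespace Cfsg.Agent.H807.CubeNum

open Cfsg.Agent.H383.Cube


/-! ### the numbers `sB` -/

theorem two_sB_le (n : ℕ) : 2 * sB n ≤ sB (n + 1) := by
  rcases n with _ | n
  · simp [sB]
  · rw [show sB (n + 1 + 1) = 2 * sB (n + 1) + 2 * (n + 1) * sB n from rfl]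
    exact Nat.le_add_right _ _

theorem sB_succ_le (n : ℕ) : sB (n + 1) ≤ (n + 2) * sB n := by
  rcases n with _ | n
  · simp [sB]
  · rw [show sB (n + 1 + 1) = 2 * sB (n + 1) + 2 * (n + 1) * sB n from rfl]
    have := two_sB_le n
    nlinarith

theorem cube_a (m : ℕ) (hm : 3 ≤ m) : (m + 2) ^ 3 ≤ 2 ^ (2 * m + 1) := by
  induction m, hm using Nat.le_induction with
  | base => norm_num
  | succ m hm ih =>
    have h : (m + 1 + 2) ^ 3 ≤ 4 * (m + 2) ^ 3 := by nlinarith [sq_nonneg m]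
    calc (m + 1 + 2) ^ 3 ≤ 4 * (m + 2) ^ 3 := h
      _ ≤ 4 * 2 ^ (2 * m + 1) := Nat.mul_le_mul_left 4 ih
      _ = 2 ^ (2 * (m + 1) + 1) := by ring

theorem cube_b (m : ℕ) (hm : 2 ≤ m) : 4 * (m + 2) ^ 3 ≤ 2 ^ (4 * m) := by
  induction m, hm using Nat.le_induction with
  | base => norm_num
  | succ m hm ih =>
    have h : (m + 1 + 2) ^ 3 ≤ 16 * (m + 2) ^ 3 := by nlinarith [sq_nonneg m]
    calc 4 * (m + 1 + 2) ^ 3 ≤ 16 * (4 * (m + 2) ^ 3) := by linarith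
      _ ≤ 16 * 2 ^ (4 * m) := Nat.mul_le_mul_left 16 ih
      _ = 2 ^ (4 * (m + 1)) := by ring

theorem cube_c (m : ℕ) (hm : 4 ≤ m) : (m + 2) ^ 3 ≤ 2 ^ (2 * m) := by
  induction m, hm using Nat.le_induction with
  | base => norm_num
  | succ m hm ih =>
    have h : (m + 1 + 2) ^ 3 ≤ 4 * (m + 2) ^ 3 := by nlinarith [sq_nonneg m]
    calc (m + 1 + 2) ^ 3 ≤ 4 * (m + 2) ^ 3 := h
      _ ≤ 4 * 2 ^ (2 * m) := Nat.mul_le_mul_left 4 ih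
      _ = 2 ^ (2 * (m + 1)) := by ring

theorem pow_aux {x : ℝ} (hx : 2 ≤ x) (k : ℕ) (hk : 1 ≤ k) : 2 ^ k * x ≤ 2 * x ^ k := by
  induction k, hk using Nat.le_induction with
  | base => simp
  | succ k hk ih =>
    have h0 : 0 ≤ x ^ k := by positivity
    calc 2 ^ (k + 1) * x = 2 * (2 ^ k * x) := by ring
      _ ≤ 2 * (2 * x ^ k) := by linarith
      _ ≤ x * (2 * x ^ k) := by nlinarith
      _ = 2 * x ^ (k + 1) := by ring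

theorem pow_aux2 {x : ℝ} (hx : 2 ≤ x) (k : ℕ) (hk : 2 ≤ k) : 2 ^ k * x ^ 2 ≤ 4 * x ^ k := by
  induction k, hk using Nat.le_induction with
  | base => norm_num
  | succ k hk ih =>
    have h0 : 0 ≤ x ^ k := by positivity
    calc 2 ^ (k + 1) * x ^ 2 = 2 * (2 ^ k * x ^ 2) := by ring
      _ ≤ 2 * (4 * x ^ k) := by linarith
      _ ≤ x * (4 * x ^ k) := by nlinarith
      _ = 4 * x ^ (k + 1) := by ring

theorem cube_ra {x : ℝ} (hx : 2 ≤ x) (m : ℕ) (hm : 3 ≤ m) : ((m : ℝ) + 2) ^ 3 * x ≤ 4 * (x ^ m) ^ 2 := by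
  have h1 : ((m : ℝ) + 2) ^ 3 ≤ 2 ^ (2 * m + 1) := by exact_mod_cast cube_a m hm
  have h2 := pow_aux hx (2 * m) (by omega)
  calc ((m : ℝ) + 2) ^ 3 * x ≤ 2 ^ (2 * m + 1) * x := by nlinarith
    _ = 2 * (2 ^ (2 * m) * x) := by ring
    _ ≤ 2 * (2 * x ^ (2 * m)) := by linarith
    _ = 4 * (x ^ m) ^ 2 := by ring

theorem cube_rb {x : ℝ} (hx : 2 ≤ x) (m : ℕ) (hm : 2 ≤ m) : ((m : ℝ) + 2) ^ 3 * x ^ 2 ≤ (x ^ m) ^ 4 := by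
  have h1 : 4 * ((m : ℝ) + 2) ^ 3 ≤ 2 ^ (4 * m) := by exact_mod_cast cube_b m hm
  have h2 := pow_aux2 hx (4 * m) (by omega)
  have h3 : (4 * ((m : ℝ) + 2) ^ 3) * x ^ 2 ≤ 2 ^ (4 * m) * x ^ 2 :=
    mul_le_mul_of_nonneg_right h1 (by positivity)
  have h4 : x ^ (4 * m) = (x ^ m) ^ 4 := by ring
  nlinarith

theorem cube_rc {x : ℝ} (hx : 2 ≤ x) (m : ℕ) (hm : 4 ≤ m) :
    ((m : ℝ) + 2) ^ 3 * x ^ 2 ≤ 4 * (x ^ m) ^ 2 := by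
  have h1 : ((m : ℝ) + 2) ^ 3 ≤ 2 ^ (2 * m) := by exact_mod_cast cube_c m hm
  have h2 := pow_aux2 hx (2 * m) (by omega)
  have h3 : ((m : ℝ) + 2) ^ 3 * x ^ 2 ≤ 2 ^ (2 * m) * x ^ 2 :=
    mul_le_mul_of_nonneg_right h1 (by positivity)
  have h4 : x ^ (2 * m) = (x ^ m) ^ 2 := by ring
  nlinarith

theorem quartic {x : ℝ} (hx : 2 ≤ x) : 8 * (x - 1) ^ 3 ≤ x ^ 4 := by
  nlinarith [sq_nonneg (x ^ 2 - 4 * x + 3), sq_nonneg x]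

theorem half_sq {z : ℝ} (hz : 4 ≤ z) : z ^ 2 ≤ 2 * (z - 1) ^ 2 := by nlinarith

/-- the induction step in abstract form -/
theorem step {s s' F f N g c m : ℕ} (hs : s' ≤ (m + 2) * s) (hlt : s ^ 3 * F < c * N ^ 3)
    (hfg : (m + 2) ^ 3 * f ≤ g ^ 3) (hg : 0 < g) : s' ^ 3 * (F * f) < c * (N * g) ^ 3 := by
  have h1 : s' ^ 3 ≤ ((m + 2) * s) ^ 3 := Nat.pow_le_pow_left hs 3
  calc s' ^ 3 * (F * f) ≤ ((m + 2) * s) ^ 3 * (F * f) := Nat.mul_le_mul_right _ h1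
    _ = (s ^ 3 * F) * ((m + 2) ^ 3 * f) := by ring
    _ ≤ (s ^ 3 * F) * g ^ 3 := Nat.mul_le_mul_left _ hfg
    _ < (c * N ^ 3) * g ^ 3 := Nat.mul_lt_mul_of_pos_right hlt (by positivity)
    _ = c * (N * g) ^ 3 := by ring

theorem gsum {x : ℝ} (hx : 2 ≤ x) (n : ℕ) : (x - 1) * ∑ j ∈ Finset.range n, x ^ j = x ^ n - 1 := by
  rw [mul_comm]; exact geom_sum_mul x n

theorem gsum_pos (q n : ℕ) : 0 < ∑ j ∈ Finset.range (n + 1), q ^ j := by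
  rw [Finset.sum_range_succ']
  simp

theorem NB_succ (a b n : ℕ) :
    NB a b (n + 1) = NB a b n * ((∑ j ∈ Finset.range (n + 1), a ^ j) * (1 + a ^ n * b)) :=
  Finset.prod_range_succ _ _

/-! ### steps -/

theorem step_C (m q : ℕ) (hm : 3 ≤ m) (hq : 2 ≤ q) :
    (m + 2) ^ 3 * (q ^ (2 * m + 1) * (q ^ (2 * (m + 1)) - 1)) ≤
      ((∑ j ∈ Finset.range (m + 1), q ^ j) * (1 + q ^ m * q)) ^ 3 := by
  have hx : (2 : ℝ) ≤ q := by exact_mod_cast hq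
  have h1 : 1 ≤ q ^ (2 * (m + 1)) := Nat.one_le_pow _ _ (by omega)
  have hS := gsum hx (m + 1)
  have key : ((m : ℝ) + 2) ^ 3 * ((q : ℝ) ^ (2 * m + 1) * ((q : ℝ) ^ (2 * (m + 1)) - 1)) ≤
      ((∑ j ∈ Finset.range (m + 1), (q : ℝ) ^ j) * (1 + (q : ℝ) ^ m * q)) ^ 3 := by
    generalize hS' : (∑ j ∈ Finset.range (m + 1), (q : ℝ) ^ j) = S at hS ⊢
    have ha := cube_ra hx m hm
    have hy : (4 : ℝ) ≤ (q : ℝ) ^ m := by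
      calc (4 : ℝ) = 2 ^ 2 := by norm_num
        _ ≤ (q : ℝ) ^ 2 := by gcongr
        _ ≤ (q : ℝ) ^ m := pow_le_pow_right₀ (by linarith) (by omega)
    rw [pow_succ] at hS
    rw [show (q : ℝ) ^ (2 * m + 1) = ((q : ℝ) ^ m) ^ 2 * q by ring,
      show (q : ℝ) ^ (2 * (m + 1)) = ((q : ℝ) ^ m * q) ^ 2 by ring]
    generalize (q : ℝ) ^ m = y at *
    generalize (q : ℝ) = x at *
    have hx0 : 0 < x - 1 := by linarith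
    have h3 := quartic hx
    have hz : 4 ≤ (x * y) ^ 2 := by nlinarith [mul_le_mul hx hy (by norm_num) (by linarith)]
    have h4 := half_sq hz
    have e : 0 < (x - 1) ^ 3 := by positivity
    refine le_of_mul_le_mul_left ?_ e
    have e1 : (x - 1) ^ 3 * (S * (1 + y * x)) ^ 3 = ((x * y) ^ 2 - 1) ^ 3 := by
      calc (x - 1) ^ 3 * (S * (1 + y * x)) ^ 3 = ((x - 1) * S * (1 + y * x)) ^ 3 := by ring
        _ = ((x * y) ^ 2 - 1) ^ 3 := by rw [hS]; ring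
    rw [e1]
    have e2 : (((m : ℝ) + 2) ^ 3 * x) * (y ^ 2 * (x - 1) ^ 3) ≤ (4 * y ^ 2) * (y ^ 2 * (x - 1) ^ 3) :=
      mul_le_mul_of_nonneg_right ha (by positivity)
    have e3 : (4 * y ^ 2) * (y ^ 2 * (x - 1) ^ 3) ≤ ((x * y) ^ 2) ^ 2 / 2 := by
      have : 0 ≤ y ^ 4 := by positivity
      nlinarith [mul_le_mul_of_nonneg_left h3 this]
    have e4 : (((m : ℝ) + 2) ^ 3 * x) * (y ^ 2 * (x - 1) ^ 3) ≤ ((x * y) ^ 2 - 1) ^ 2 := by linarith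
    have e5 : 0 ≤ (x * y) ^ 2 - 1 := by linarith
    calc (x - 1) ^ 3 * (((m : ℝ) + 2) ^ 3 * (y ^ 2 * x * ((y * x) ^ 2 - 1)))
        = ((((m : ℝ) + 2) ^ 3 * x) * (y ^ 2 * (x - 1) ^ 3)) * ((x * y) ^ 2 - 1) := by ring
      _ ≤ ((x * y) ^ 2 - 1) ^ 2 * ((x * y) ^ 2 - 1) := mul_le_mul_of_nonneg_right e4 e5
      _ = ((x * y) ^ 2 - 1) ^ 3 := by ring
  rw [← Nat.cast_le (α := ℝ)]
  push_cast [Nat.cast_sub h1]
  exact key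

theorem step_Ueven (m q : ℕ) (hm : 2 ≤ m) (hq : 2 ≤ q) :
    (m + 2) ^ 3 * (q ^ (4 * m + 1) * ((q ^ (2 * (m + 1)) - 1) * (q ^ (2 * m + 1) + 1))) ≤
      ((∑ j ∈ Finset.range (m + 1), (q ^ 2) ^ j) * (1 + (q ^ 2) ^ m * q)) ^ 3 := by
  have hx : (2 : ℝ) ≤ q := by exact_mod_cast hq
  have hx2 : (2 : ℝ) ≤ (q : ℝ) ^ 2 := by nlinarith
  have h1 : 1 ≤ q ^ (2 * (m + 1)) := Nat.one_le_pow _ _ (by omega)
  have hS := gsum hx2 (m + 1)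
  have key : ((m : ℝ) + 2) ^ 3 * ((q : ℝ) ^ (4 * m + 1) *
      (((q : ℝ) ^ (2 * (m + 1)) - 1) * ((q : ℝ) ^ (2 * m + 1) + 1))) ≤
      ((∑ j ∈ Finset.range (m + 1), ((q : ℝ) ^ 2) ^ j) * (1 + ((q : ℝ) ^ 2) ^ m * q)) ^ 3 := by
    generalize hS' : (∑ j ∈ Finset.range (m + 1), ((q : ℝ) ^ 2) ^ j) = S at hS ⊢
    have ha := cube_rb hx m hm
    have hy : (4 : ℝ) ≤ (q : ℝ) ^ m := by
      calc (4 : ℝ) = 2 ^ 2 := by norm_num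
        _ ≤ (q : ℝ) ^ 2 := by gcongr
        _ ≤ (q : ℝ) ^ m := pow_le_pow_right₀ (by linarith) (by omega)
    rw [show ((q : ℝ) ^ 2) ^ (m + 1) = ((q : ℝ) * (q : ℝ) ^ m) ^ 2 by ring] at hS
    rw [show (q : ℝ) ^ (4 * m + 1) = ((q : ℝ) ^ m) ^ 4 * q by ring,
      show (q : ℝ) ^ (2 * (m + 1)) = ((q : ℝ) * (q : ℝ) ^ m) ^ 2 by ring,
      show (q : ℝ) ^ (2 * m + 1) = ((q : ℝ) ^ m) ^ 2 * q by ring,
      show ((q : ℝ) ^ 2) ^ m = ((q : ℝ) ^ m) ^ 2 by ring]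
    generalize (q : ℝ) ^ m = y at *
    generalize (q : ℝ) = x at *
    have hx0 : 0 < x ^ 2 - 1 := by linarith
    have hz : 4 ≤ (x * y) ^ 2 := by nlinarith [mul_le_mul hx hy (by norm_num) (by linarith)]
    have h4 := half_sq hz
    have e : 0 < (x ^ 2 - 1) ^ 3 := by positivity
    refine le_of_mul_le_mul_left ?_ e
    have e1 : (x ^ 2 - 1) ^ 3 * (S * (1 + y ^ 2 * x)) ^ 3 =
        (((x * y) ^ 2 - 1) * (y ^ 2 * x + 1)) ^ 3 := by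
      calc (x ^ 2 - 1) ^ 3 * (S * (1 + y ^ 2 * x)) ^ 3 = ((x ^ 2 - 1) * S * (1 + y ^ 2 * x)) ^ 3 := by ring
        _ = (((x * y) ^ 2 - 1) * (y ^ 2 * x + 1)) ^ 3 := by rw [hS]; ring
    rw [e1]
    have e5 : 0 ≤ (x * y) ^ 2 - 1 := by linarith
    have hv : 0 ≤ y ^ 2 * x := by positivity
    -- the main inequality, multiplied by `x`
    have c1 : (((m : ℝ) + 2) ^ 3 * x ^ 2) * (y ^ 4 * (x ^ 2 - 1) ^ 3) ≤ y ^ 4 * (y ^ 4 * (x ^ 2 - 1) ^ 3) :=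
      mul_le_mul_of_nonneg_right ha (by positivity)
    have c2 : (x ^ 2 - 1) ^ 3 ≤ (x ^ 2) ^ 3 := pow_le_pow_left₀ hx0.le (by linarith) 3
    have c3 : y ^ 4 * (y ^ 4 * (x ^ 2 - 1) ^ 3) ≤ y ^ 8 * x ^ 6 := by
      calc y ^ 4 * (y ^ 4 * (x ^ 2 - 1) ^ 3) = y ^ 8 * (x ^ 2 - 1) ^ 3 := by ring
        _ ≤ y ^ 8 * (x ^ 2) ^ 3 := mul_le_mul_of_nonneg_left c2 (by positivity)
        _ = y ^ 8 * x ^ 6 := by ring
    have c4 : (x * y) ^ 4 * (y ^ 2 * x) ^ 2 ≤ (2 * ((x * y) ^ 2 - 1) ^ 2) * (y ^ 2 * x + 1) ^ 2 := by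
      apply mul_le_mul _ _ (by positivity) (by positivity)
      · calc (x * y) ^ 4 = ((x * y) ^ 2) ^ 2 := by ring
          _ ≤ _ := h4
      · exact pow_le_pow_left₀ hv (by linarith) 2
    have c5 : x * (((m : ℝ) + 2) ^ 3 * x * (y ^ 4 * (x ^ 2 - 1) ^ 3)) ≤
        x * (((x * y) ^ 2 - 1) * (y ^ 2 * x + 1)) ^ 2 := by
      have c6 : y ^ 8 * x ^ 6 ≤ 2 * (((x * y) ^ 2 - 1) * (y ^ 2 * x + 1)) ^ 2 := by
        calc y ^ 8 * x ^ 6 = (x * y) ^ 4 * (y ^ 2 * x) ^ 2 := by ring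
          _ ≤ _ := c4
          _ = _ := by ring
      have c7 : 2 * (((x * y) ^ 2 - 1) * (y ^ 2 * x + 1)) ^ 2 ≤ x * (((x * y) ^ 2 - 1) * (y ^ 2 * x + 1)) ^ 2 :=
        mul_le_mul_of_nonneg_right hx (by positivity)
      calc x * (((m : ℝ) + 2) ^ 3 * x * (y ^ 4 * (x ^ 2 - 1) ^ 3))
          = (((m : ℝ) + 2) ^ 3 * x ^ 2) * (y ^ 4 * (x ^ 2 - 1) ^ 3) := by ring
        _ ≤ _ := c1
        _ ≤ _ := c3
        _ ≤ _ := c6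
        _ ≤ _ := c7
    have c8 := le_of_mul_le_mul_left c5 (by linarith : (0 : ℝ) < x)
    calc (x ^ 2 - 1) ^ 3 * (((m : ℝ) + 2) ^ 3 * (y ^ 4 * x * (((x * y) ^ 2 - 1) * (y ^ 2 * x + 1))))
        = (((m : ℝ) + 2) ^ 3 * x * (y ^ 4 * (x ^ 2 - 1) ^ 3)) * (((x * y) ^ 2 - 1) * (y ^ 2 * x + 1)) := by ring
      _ ≤ (((x * y) ^ 2 - 1) * (y ^ 2 * x + 1)) ^ 2 * (((x * y) ^ 2 - 1) * (y ^ 2 * x + 1)) :=
          mul_le_mul_of_nonneg_right c8 (by positivity)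
      _ = (((x * y) ^ 2 - 1) * (y ^ 2 * x + 1)) ^ 3 := by ring
  rw [← Nat.cast_le (α := ℝ)]
  push_cast [Nat.cast_sub h1]
  exact key


theorem step_Uodd (m q : ℕ) (hm : 2 ≤ m) (hq : 2 ≤ q) :
    (m + 2) ^ 3 * (q ^ (4 * m + 3) * ((q ^ (2 * (m + 1)) - 1) * (q ^ (2 * m + 3) + 1))) ≤
      ((∑ j ∈ Finset.range (m + 1), (q ^ 2) ^ j) * (1 + (q ^ 2) ^ m * q ^ 3)) ^ 3 := by
  have hx : (2 : ℝ) ≤ q := by exact_mod_cast hq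
  have hx2 : (2 : ℝ) ≤ (q : ℝ) ^ 2 := by nlinarith
  have h1 : 1 ≤ q ^ (2 * (m + 1)) := Nat.one_le_pow _ _ (by omega)
  have hS := gsum hx2 (m + 1)
  have key : ((m : ℝ) + 2) ^ 3 * ((q : ℝ) ^ (4 * m + 3) *
      (((q : ℝ) ^ (2 * (m + 1)) - 1) * ((q : ℝ) ^ (2 * m + 3) + 1))) ≤
      ((∑ j ∈ Finset.range (m + 1), ((q : ℝ) ^ 2) ^ j) * (1 + ((q : ℝ) ^ 2) ^ m * (q : ℝ) ^ 3)) ^ 3 := by
    generalize hS' : (∑ j ∈ Finset.range (m + 1), ((q : ℝ) ^ 2) ^ j) = S at hS ⊢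
    have ha := cube_rb hx m hm
    have hy : (4 : ℝ) ≤ (q : ℝ) ^ m := by
      calc (4 : ℝ) = 2 ^ 2 := by norm_num
        _ ≤ (q : ℝ) ^ 2 := by gcongr
        _ ≤ (q : ℝ) ^ m := pow_le_pow_right₀ (by linarith) (by omega)
    rw [show ((q : ℝ) ^ 2) ^ (m + 1) = ((q : ℝ) * (q : ℝ) ^ m) ^ 2 by ring] at hS
    rw [show (q : ℝ) ^ (4 * m + 3) = ((q : ℝ) ^ m) ^ 4 * (q : ℝ) ^ 3 by ring,
      show (q : ℝ) ^ (2 * (m + 1)) = ((q : ℝ) * (q : ℝ) ^ m) ^ 2 by ring,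
      show (q : ℝ) ^ (2 * m + 3) = ((q : ℝ) ^ m) ^ 2 * (q : ℝ) ^ 3 by ring,
      show ((q : ℝ) ^ 2) ^ m = ((q : ℝ) ^ m) ^ 2 by ring]
    generalize (q : ℝ) ^ m = y at *
    generalize (q : ℝ) = x at *
    have hx0 : 0 < x ^ 2 - 1 := by linarith
    have hz : 4 ≤ (x * y) ^ 2 := by nlinarith [mul_le_mul hx hy (by norm_num) (by linarith)]
    have h4 := half_sq hz
    have e : 0 < (x ^ 2 - 1) ^ 3 := by positivity
    refine le_of_mul_le_mul_left ?_ e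
    have e1 : (x ^ 2 - 1) ^ 3 * (S * (1 + y ^ 2 * x ^ 3)) ^ 3 =
        (((x * y) ^ 2 - 1) * (y ^ 2 * x ^ 3 + 1)) ^ 3 := by
      calc (x ^ 2 - 1) ^ 3 * (S * (1 + y ^ 2 * x ^ 3)) ^ 3 =
            ((x ^ 2 - 1) * S * (1 + y ^ 2 * x ^ 3)) ^ 3 := by ring
        _ = (((x * y) ^ 2 - 1) * (y ^ 2 * x ^ 3 + 1)) ^ 3 := by rw [hS]; ring
    rw [e1]
    have e5 : 0 ≤ (x * y) ^ 2 - 1 := by linarith
    have hv : 0 ≤ y ^ 2 * x ^ 3 := by positivity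
    have c1 : (((m : ℝ) + 2) ^ 3 * x ^ 2) * (y ^ 4 * x * (x ^ 2 - 1) ^ 3) ≤
        y ^ 4 * (y ^ 4 * x * (x ^ 2 - 1) ^ 3) :=
      mul_le_mul_of_nonneg_right ha (by positivity)
    have c2 : (x ^ 2 - 1) ^ 3 ≤ (x ^ 2) ^ 3 := pow_le_pow_left₀ hx0.le (by linarith) 3
    have c3 : y ^ 4 * (y ^ 4 * x * (x ^ 2 - 1) ^ 3) ≤ y ^ 8 * x ^ 7 := by
      calc y ^ 4 * (y ^ 4 * x * (x ^ 2 - 1) ^ 3) = y ^ 8 * x * (x ^ 2 - 1) ^ 3 := by ring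
        _ ≤ y ^ 8 * x * (x ^ 2) ^ 3 := mul_le_mul_of_nonneg_left c2 (by positivity)
        _ = y ^ 8 * x ^ 7 := by ring
    have c4 : (x * y) ^ 4 * (y ^ 2 * x ^ 3) ^ 2 ≤ (2 * ((x * y) ^ 2 - 1) ^ 2) * (y ^ 2 * x ^ 3 + 1) ^ 2 := by
      apply mul_le_mul _ _ (by positivity) (by positivity)
      · calc (x * y) ^ 4 = ((x * y) ^ 2) ^ 2 := by ring
          _ ≤ _ := h4
      · exact pow_le_pow_left₀ hv (by linarith) 2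
    have c5 : 2 * (y ^ 8 * x ^ 7) ≤ (x * y) ^ 4 * (y ^ 2 * x ^ 3) ^ 2 := by
      have : 2 ≤ x ^ 3 := by nlinarith [mul_le_mul hx hx2 (by norm_num) (by linarith)]
      calc 2 * (y ^ 8 * x ^ 7) ≤ x ^ 3 * (y ^ 8 * x ^ 7) := mul_le_mul_of_nonneg_right this (by positivity)
        _ = _ := by ring
    have c8 : (((m : ℝ) + 2) ^ 3 * x ^ 2) * (y ^ 4 * x * (x ^ 2 - 1) ^ 3) ≤
        (((x * y) ^ 2 - 1) * (y ^ 2 * x ^ 3 + 1)) ^ 2 := by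
      have c9 : 2 * (((x * y) ^ 2 - 1) * (y ^ 2 * x ^ 3 + 1)) ^ 2 =
        (2 * ((x * y) ^ 2 - 1) ^ 2) * (y ^ 2 * x ^ 3 + 1) ^ 2 := by ring
      linarith
    calc (x ^ 2 - 1) ^ 3 * (((m : ℝ) + 2) ^ 3 * (y ^ 4 * x ^ 3 * (((x * y) ^ 2 - 1) * (y ^ 2 * x ^ 3 + 1))))
        = ((((m : ℝ) + 2) ^ 3 * x ^ 2) * (y ^ 4 * x * (x ^ 2 - 1) ^ 3)) *
          (((x * y) ^ 2 - 1) * (y ^ 2 * x ^ 3 + 1)) := by ring
      _ ≤ (((x * y) ^ 2 - 1) * (y ^ 2 * x ^ 3 + 1)) ^ 2 * (((x * y) ^ 2 - 1) * (y ^ 2 * x ^ 3 + 1)) :=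
          mul_le_mul_of_nonneg_right c8 (by positivity)
      _ = (((x * y) ^ 2 - 1) * (y ^ 2 * x ^ 3 + 1)) ^ 3 := by ring
  rw [← Nat.cast_le (α := ℝ)]
  push_cast [Nat.cast_sub h1]
  exact key

theorem step_2D (m q : ℕ) (hm : 3 ≤ m) (hq : 2 ≤ q) :
    (m + 2) ^ 3 * (q ^ (2 * m + 2) * ((q ^ (m + 2) + 1) * (q ^ (m + 1) - 1))) ≤
      ((∑ j ∈ Finset.range (m + 1), q ^ j) * (1 + q ^ m * q ^ 2)) ^ 3 := by
  have hx : (2 : ℝ) ≤ q := by exact_mod_cast hq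
  have h1 : 1 ≤ q ^ (m + 1) := Nat.one_le_pow _ _ (by omega)
  have hS := gsum hx (m + 1)
  have key : ((m : ℝ) + 2) ^ 3 * ((q : ℝ) ^ (2 * m + 2) * (((q : ℝ) ^ (m + 2) + 1) * ((q : ℝ) ^ (m + 1) - 1))) ≤
      ((∑ j ∈ Finset.range (m + 1), (q : ℝ) ^ j) * (1 + (q : ℝ) ^ m * (q : ℝ) ^ 2)) ^ 3 := by
    generalize hS' : (∑ j ∈ Finset.range (m + 1), (q : ℝ) ^ j) = S at hS ⊢
    have ha := cube_ra hx m hm
    have hy : (4 : ℝ) ≤ (q : ℝ) ^ m := by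
      calc (4 : ℝ) = 2 ^ 2 := by norm_num
        _ ≤ (q : ℝ) ^ 2 := by gcongr
        _ ≤ (q : ℝ) ^ m := pow_le_pow_right₀ (by linarith) (by omega)
    rw [show (q : ℝ) ^ (m + 1) = (q : ℝ) * (q : ℝ) ^ m by ring] at hS ⊢
    rw [show (q : ℝ) ^ (2 * m + 2) = ((q : ℝ) ^ m) ^ 2 * (q : ℝ) ^ 2 by ring,
      show (q : ℝ) ^ (m + 2) = (q : ℝ) ^ m * (q : ℝ) ^ 2 by ring]
    generalize (q : ℝ) ^ m = y at *
    generalize (q : ℝ) = x at *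
    have hx0 : 0 < x - 1 := by linarith
    have h3 := quartic hx
    have hz : 4 ≤ x * y := by nlinarith
    have h4 := half_sq hz
    have e : 0 < (x - 1) ^ 3 := by positivity
    refine le_of_mul_le_mul_left ?_ e
    have e1 : (x - 1) ^ 3 * (S * (1 + y * x ^ 2)) ^ 3 = ((x * y - 1) * (y * x ^ 2 + 1)) ^ 3 := by
      calc (x - 1) ^ 3 * (S * (1 + y * x ^ 2)) ^ 3 = ((x - 1) * S * (1 + y * x ^ 2)) ^ 3 := by ring
        _ = _ := by rw [hS]; ring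
    rw [e1]
    have hv : 0 ≤ y * x ^ 2 := by positivity
    have e5 : 0 ≤ x * y - 1 := by linarith
    have c1 : (((m : ℝ) + 2) ^ 3 * x) * (x * y ^ 2 * (x - 1) ^ 3) ≤ (4 * y ^ 2) * (x * y ^ 2 * (x - 1) ^ 3) :=
      mul_le_mul_of_nonneg_right ha (by positivity)
    have c2 : 2 * ((4 * y ^ 2) * (x * y ^ 2 * (x - 1) ^ 3)) ≤ x ^ 5 * y ^ 4 := by
      calc 2 * ((4 * y ^ 2) * (x * y ^ 2 * (x - 1) ^ 3)) = (x * y ^ 4) * (8 * (x - 1) ^ 3) := by ring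
        _ ≤ (x * y ^ 4) * x ^ 4 := mul_le_mul_of_nonneg_left h3 (by positivity)
        _ = x ^ 5 * y ^ 4 := by ring
    have c3 : (x * y) ^ 2 * (y * x ^ 2) ^ 2 ≤ (2 * (x * y - 1) ^ 2) * (y * x ^ 2 + 1) ^ 2 :=
      mul_le_mul h4 (pow_le_pow_left₀ hv (by linarith) 2) (by positivity) (by positivity)
    have c4 : x ^ 5 * y ^ 4 ≤ (x * y) ^ 2 * (y * x ^ 2) ^ 2 := by
      calc x ^ 5 * y ^ 4 = 1 * (x ^ 5 * y ^ 4) := by ring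
        _ ≤ x * (x ^ 5 * y ^ 4) := mul_le_mul_of_nonneg_right (by linarith) (by positivity)
        _ = _ := by ring
    have c5 : (2 * (x * y - 1) ^ 2) * (y * x ^ 2 + 1) ^ 2 = 2 * ((x * y - 1) * (y * x ^ 2 + 1)) ^ 2 := by ring
    have c8 : (((m : ℝ) + 2) ^ 3 * x) * (x * y ^ 2 * (x - 1) ^ 3) ≤ ((x * y - 1) * (y * x ^ 2 + 1)) ^ 2 := by
      linarith
    calc (x - 1) ^ 3 * (((m : ℝ) + 2) ^ 3 * (y ^ 2 * x ^ 2 * ((y * x ^ 2 + 1) * (x * y - 1))))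
        = ((((m : ℝ) + 2) ^ 3 * x) * (x * y ^ 2 * (x - 1) ^ 3)) * ((x * y - 1) * (y * x ^ 2 + 1)) := by ring
      _ ≤ ((x * y - 1) * (y * x ^ 2 + 1)) ^ 2 * ((x * y - 1) * (y * x ^ 2 + 1)) :=
          mul_le_mul_of_nonneg_right c8 (by positivity)
      _ = ((x * y - 1) * (y * x ^ 2 + 1)) ^ 3 := by ring
  rw [← Nat.cast_le (α := ℝ)]
  push_cast [Nat.cast_sub h1]
  exact key

theorem step_D (m q : ℕ) (hm : 4 ≤ m) (hq : 2 ≤ q) :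
    (m + 2) ^ 3 * (q ^ (2 * m) * ((q ^ (m + 1) - 1) * (q ^ m + 1))) ≤
      ((∑ j ∈ Finset.range (m + 1), q ^ j) * (1 + q ^ m)) ^ 3 := by
  have hx : (2 : ℝ) ≤ q := by exact_mod_cast hq
  have h1 : 1 ≤ q ^ (m + 1) := Nat.one_le_pow _ _ (by omega)
  have hS := gsum hx (m + 1)
  have key : ((m : ℝ) + 2) ^ 3 * ((q : ℝ) ^ (2 * m) * (((q : ℝ) ^ (m + 1) - 1) * ((q : ℝ) ^ m + 1))) ≤
      ((∑ j ∈ Finset.range (m + 1), (q : ℝ) ^ j) * (1 + (q : ℝ) ^ m)) ^ 3 := by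
    generalize hS' : (∑ j ∈ Finset.range (m + 1), (q : ℝ) ^ j) = S at hS ⊢
    have ha := cube_rc hx m hm
    have hy : (4 : ℝ) ≤ (q : ℝ) ^ m := by
      calc (4 : ℝ) = 2 ^ 2 := by norm_num
        _ ≤ (q : ℝ) ^ 2 := by gcongr
        _ ≤ (q : ℝ) ^ m := pow_le_pow_right₀ (by linarith) (by omega)
    rw [show (q : ℝ) ^ (m + 1) = (q : ℝ) * (q : ℝ) ^ m by ring] at hS ⊢
    rw [show (q : ℝ) ^ (2 * m) = ((q : ℝ) ^ m) ^ 2 by ring]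
    generalize (q : ℝ) ^ m = y at *
    generalize (q : ℝ) = x at *
    have hx0 : 0 < x - 1 := by linarith
    have h3 := quartic hx
    have hz : 4 ≤ x * y := by nlinarith
    have h4 := half_sq hz
    have e : 0 < (x - 1) ^ 3 := by positivity
    refine le_of_mul_le_mul_left ?_ e
    have e1 : (x - 1) ^ 3 * (S * (1 + y)) ^ 3 = ((x * y - 1) * (y + 1)) ^ 3 := by
      calc (x - 1) ^ 3 * (S * (1 + y)) ^ 3 = ((x - 1) * S * (1 + y)) ^ 3 := by ring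
        _ = _ := by rw [hS]; ring
    rw [e1]
    have hv : 0 ≤ y := by linarith
    have e5 : 0 ≤ x * y - 1 := by linarith
    have c1 : (((m : ℝ) + 2) ^ 3 * x ^ 2) * (y ^ 2 * (x - 1) ^ 3) ≤ (4 * y ^ 2) * (y ^ 2 * (x - 1) ^ 3) :=
      mul_le_mul_of_nonneg_right ha (by positivity)
    have c2 : 2 * ((4 * y ^ 2) * (y ^ 2 * (x - 1) ^ 3)) ≤ x ^ 4 * y ^ 4 := by
      calc 2 * ((4 * y ^ 2) * (y ^ 2 * (x - 1) ^ 3)) = y ^ 4 * (8 * (x - 1) ^ 3) := by ring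
        _ ≤ y ^ 4 * x ^ 4 := mul_le_mul_of_nonneg_left h3 (by positivity)
        _ = x ^ 4 * y ^ 4 := by ring
    have c3 : (x * y) ^ 2 * y ^ 2 ≤ (2 * (x * y - 1) ^ 2) * (y + 1) ^ 2 :=
      mul_le_mul h4 (pow_le_pow_left₀ hv (by linarith) 2) (by positivity) (by positivity)
    have c3' : x ^ 2 * ((x * y) ^ 2 * y ^ 2) ≤ x ^ 2 * ((2 * (x * y - 1) ^ 2) * (y + 1) ^ 2) :=
      mul_le_mul_of_nonneg_left c3 (by positivity)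
    have c7 : x ^ 2 * ((((m : ℝ) + 2) ^ 3) * (y ^ 2 * (x - 1) ^ 3)) ≤ x ^ 2 * ((x * y - 1) * (y + 1)) ^ 2 := by
      have d1 : x ^ 2 * ((((m : ℝ) + 2) ^ 3) * (y ^ 2 * (x - 1) ^ 3)) =
        (((m : ℝ) + 2) ^ 3 * x ^ 2) * (y ^ 2 * (x - 1) ^ 3) := by ring
      have d2 : x ^ 2 * ((x * y) ^ 2 * y ^ 2) = x ^ 4 * y ^ 4 := by ring
      have d3 : x ^ 2 * ((2 * (x * y - 1) ^ 2) * (y + 1) ^ 2) = 2 * (x ^ 2 * ((x * y - 1) * (y + 1)) ^ 2) := by ring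
      linarith
    have c8 := le_of_mul_le_mul_left c7 (by positivity)
    calc (x - 1) ^ 3 * (((m : ℝ) + 2) ^ 3 * (y ^ 2 * ((x * y - 1) * (y + 1))))
        = ((((m : ℝ) + 2) ^ 3) * (y ^ 2 * (x - 1) ^ 3)) * ((x * y - 1) * (y + 1)) := by ring
      _ ≤ ((x * y - 1) * (y + 1)) ^ 2 * ((x * y - 1) * (y + 1)) :=
          mul_le_mul_of_nonneg_right c8 (by positivity)
      _ = ((x * y - 1) * (y + 1)) ^ 3 := by ring
  rw [← Nat.cast_le (α := ℝ)]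
  push_cast [Nat.cast_sub h1]
  exact key

end Cfsg.Agent.H807.CubeNum
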