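import Cfsg.Agent.H807.CubePoly
import Cfsg.Agent.H807.CubeStep

/-!
# Numerical inequalities for S5721 (task of helper383)
-/

set_option autoImplicit false

namespace Cfsg.Agent.H807.CubeNum

open Cfsg.Agent.H383.Cube

theorem sB_two : sB 2 = 6 := rfl
theorem sB_three : sB 3 = 20 := rfl
theorem sB_four : sB 4 = 76 := rfl

theorem NB_two (a b : ℕ) : NB a b 2 = (1 + b) * ((1 + a) * (1 + a * b)) := by
  simp [NB, Finset.prod_range_succ, Finset.sum_range_succ]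

theorem NB_three (a b : ℕ) :
    NB a b 3 = (1 + b) * ((1 + a) * (1 + a * b)) * ((1 + a + a ^ 2) * (1 + a ^ 2 * b)) := by
  simp [NB, Finset.prod_range_succ, Finset.sum_range_succ]

theorem ND_four (a : ℕ) :
    ND a 4 = (1 + a) * (1 + a) * ((1 + a + a ^ 2) * (1 + a ^ 2)) * ((1 + a + a ^ 2 + a ^ 3) * (1 + a ^ 3)) := by
  simp [ND, Finset.prod_range_succ, Finset.sum_range_succ]

theorem ND_succ (a n : ℕ) (hn : 1 ≤ n) :
    ND a (n + 1) = ND a n * ((∑ j ∈ Finset.range (n + 1), a ^ j) * (1 + a ^ n)) := by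
  obtain ⟨k, rfl⟩ : ∃ k, n = k + 1 := ⟨n - 1, by omega⟩
  exact Finset.prod_range_succ _ _

theorem sub2 (q : ℕ) (hq : 1 ≤ q) : q ^ 2 - 1 = (q - 1) * (q + 1) := by
  obtain ⟨k, rfl⟩ : ∃ k, q = k + 1 := ⟨q - 1, by omega⟩
  rw [Nat.add_sub_cancel]
  exact Nat.sub_eq_of_eq_add (by ring)

theorem sub4 (q : ℕ) (hq : 1 ≤ q) : q ^ 4 - 1 = (q - 1) * ((q + 1) * (q ^ 2 + 1)) := by
  obtain ⟨k, rfl⟩ : ∃ k, q = k + 1 := ⟨q - 1, by omega⟩
  rw [Nat.add_sub_cancel]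
  exact Nat.sub_eq_of_eq_add (by ring)

theorem sub6 (q : ℕ) (hq : 1 ≤ q) : q ^ 6 - 1 = (q - 1) * ((q ^ 2 + q + 1) * (q ^ 3 + 1)) := by
  obtain ⟨k, rfl⟩ : ∃ k, q = k + 1 := ⟨q - 1, by omega⟩
  rw [Nat.add_sub_cancel]
  exact Nat.sub_eq_of_eq_add (by ring)

/-- `A < N²` implies `A N < N³`, for `N > 0` -/
theorem fin3 {A c N F : ℕ} (hN : 0 < N) (h : A < c * N ^ 2) (hF : F = A * N) : F < c * N ^ 3 := by
  rw [hF]
  calc A * N < c * N ^ 2 * N := Nat.mul_lt_mul_of_pos_right h hN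
    _ = c * N ^ 3 := by ring

theorem num_C2_odd (q : ℕ) (hq : 7 ≤ q) (_ho : Odd q) :
    sB 2 ^ 3 * (q ^ 4 * ((q ^ 2 - 1) * (q ^ 4 - 1))) < 2 * NB q q 2 ^ 3 := by
  obtain ⟨k, rfl⟩ : ∃ k, q = k + 7 := ⟨q - 7, by omega⟩
  have h := p_C2o k
  rw [sB_two, sub2 _ (by omega), sub4 _ (by omega), NB_two]
  refine fin3 (A := 216 * (k + 7) ^ 4 * (k + 6) ^ 2) (by positivity) ?_ ?_
  · calc 216 * (k + 7) ^ 4 * (k + 6) ^ 2 = 2 * (108 * (k + 7) ^ 4 * (k + 6) ^ 2) := by ring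
      _ < 2 * ((1 + (k + 7)) ^ 4 * (1 + (k + 7) ^ 2) ^ 2) := Nat.mul_lt_mul_of_pos_left h (by norm_num)
      _ = _ := by ring
  · rw [show k + 7 - 1 = k + 6 by omega]; ring

theorem num_C2_even (q : ℕ) (hq : 16 ≤ q) :
    sB 2 ^ 3 * (q ^ 4 * ((q ^ 2 - 1) * (q ^ 4 - 1))) < NB q q 2 ^ 3 := by
  obtain ⟨k, rfl⟩ : ∃ k, q = k + 16 := ⟨q - 16, by omega⟩
  have h := p_C2e k
  rw [← one_mul (NB (k + 16) (k + 16) 2 ^ 3), sB_two, sub2 _ (by omega), sub4 _ (by omega), NB_two]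
  refine fin3 (A := 216 * (k + 16) ^ 4 * (k + 15) ^ 2) (by positivity) ?_ ?_
  · calc 216 * (k + 16) ^ 4 * (k + 15) ^ 2 < ((1 + (k + 16)) ^ 4 * (1 + (k + 16) ^ 2) ^ 2) := h
      _ = _ := by ring
  · rw [show k + 16 - 1 = k + 15 by omega]; ring

theorem num_C (n q : ℕ) (hn : 3 ≤ n) (hq : 2 ≤ q) :
    sB n ^ 3 * (q ^ (n ^ 2) * ∏ i ∈ Finset.range n, (q ^ (2 * (i + 1)) - 1)) < NB q q n ^ 3 := by
  rw [← one_mul (NB q q n ^ 3)]
  induction n, hn using Nat.le_induction with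
  | base =>
    obtain ⟨k, rfl⟩ : ∃ k, q = k + 2 := ⟨q - 2, by omega⟩
    have h := p_C3 k
    rw [sB_three, NB_three]
    refine fin3 (A := 8000 * (k + 2) ^ 9 * (k + 1) ^ 3) (by positivity) ?_ ?_
    · calc 8000 * (k + 2) ^ 9 * (k + 1) ^ 3 < _ := h
        _ = _ := by ring
    · rw [Finset.prod_range_succ, Finset.prod_range_succ, Finset.prod_range_one,
        show 2 * (0 + 1) = 2 from rfl, show 2 * (1 + 1) = 4 from rfl, show 2 * (2 + 1) = 6 from rfl,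
        sub2 _ (by omega), sub4 _ (by omega), sub6 _ (by omega), show k + 2 - 1 = k + 1 by omega]
      ring
  | succ n hn ih =>
    have e : q ^ ((n + 1) ^ 2) * ∏ i ∈ Finset.range (n + 1), (q ^ (2 * (i + 1)) - 1) =
        (q ^ (n ^ 2) * ∏ i ∈ Finset.range n, (q ^ (2 * (i + 1)) - 1)) *
          (q ^ (2 * n + 1) * (q ^ (2 * (n + 1)) - 1)) := by
      rw [Finset.prod_range_succ, show (n + 1) ^ 2 = n ^ 2 + (2 * n + 1) by ring, pow_add]
      ring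
    rw [e, NB_succ]
    exact step (sB_succ_le n) ih (step_C n q hn hq) (Nat.mul_pos (gsum_pos q n) (by positivity))

theorem num_Ueven (m q : ℕ) (hm : 2 ≤ m) (hq : 2 ≤ q) (h : m = 2 → q ≠ 2 ∧ q ≠ 3 ∧ q ≠ 4) :
    sB m ^ 3 * (q ^ (m * (2 * m - 1)) *
      ∏ i ∈ Finset.range m, ((q ^ (2 * (i + 1)) - 1) * (q ^ (2 * i + 1) + 1))) <
      (q + 1) * NB (q ^ 2) q m ^ 3 := by
  have hst : ∀ n, 2 ≤ n → sB n ^ 3 * (q ^ (n * (2 * n - 1)) *
        ∏ i ∈ Finset.range n, ((q ^ (2 * (i + 1)) - 1) * (q ^ (2 * i + 1) + 1))) <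
        (q + 1) * NB (q ^ 2) q n ^ 3 →
      sB (n + 1) ^ 3 * (q ^ ((n + 1) * (2 * (n + 1) - 1)) *
        ∏ i ∈ Finset.range (n + 1), ((q ^ (2 * (i + 1)) - 1) * (q ^ (2 * i + 1) + 1))) <
        (q + 1) * NB (q ^ 2) q (n + 1) ^ 3 := by
    intro n hn ih
    have e : q ^ ((n + 1) * (2 * (n + 1) - 1)) *
        ∏ i ∈ Finset.range (n + 1), ((q ^ (2 * (i + 1)) - 1) * (q ^ (2 * i + 1) + 1)) =
        (q ^ (n * (2 * n - 1)) *
          ∏ i ∈ Finset.range n, ((q ^ (2 * (i + 1)) - 1) * (q ^ (2 * i + 1) + 1))) *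
          (q ^ (4 * n + 1) * ((q ^ (2 * (n + 1)) - 1) * (q ^ (2 * n + 1) + 1))) := by
      have e1 : (n + 1) * (2 * (n + 1) - 1) = n * (2 * n - 1) + (4 * n + 1) := by
        obtain ⟨k, rfl⟩ : ∃ k, n = k + 1 := ⟨n - 1, by omega⟩
        rw [show 2 * (k + 1 + 1) - 1 = 2 * k + 3 by omega, show 2 * (k + 1) - 1 = 2 * k + 1 by omega]
        ring
      rw [Finset.prod_range_succ, e1, pow_add]
      ring
    rw [e, NB_succ]
    exact step (sB_succ_le n) ih (step_Ueven n q hn hq) (Nat.mul_pos (gsum_pos _ n) (by positivity))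
  have h3 : ∀ m, 3 ≤ m → q = 2 ∨ q = 3 ∨ q = 4 → sB m ^ 3 * (q ^ (m * (2 * m - 1)) *
      ∏ i ∈ Finset.range m, ((q ^ (2 * (i + 1)) - 1) * (q ^ (2 * i + 1) + 1))) <
      (q + 1) * NB (q ^ 2) q m ^ 3 := by
    intro m hm hq'
    induction m, hm using Nat.le_induction with
    | base =>
      rw [sB_three, NB_three, Finset.prod_range_succ, Finset.prod_range_succ, Finset.prod_range_one]
      rcases hq' with rfl | rfl | rfl <;> norm_num
    | succ n hn ih => exact hst n (by omega) ih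
  have h5 : ∀ m, 2 ≤ m → 5 ≤ q → sB m ^ 3 * (q ^ (m * (2 * m - 1)) *
      ∏ i ∈ Finset.range m, ((q ^ (2 * (i + 1)) - 1) * (q ^ (2 * i + 1) + 1))) <
      (q + 1) * NB (q ^ 2) q m ^ 3 := by
    intro m hm hq'
    induction m, hm using Nat.le_induction with
    | base =>
      obtain ⟨k, rfl⟩ : ∃ k, q = k + 5 := ⟨q - 5, by omega⟩
      have h := p_U4 k
      rw [sB_two, NB_two]
      refine fin3 (A := 216 * (k + 5) ^ 6 * ((k + 4) * (k + 6)) ^ 2) (by positivity) ?_ ?_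
      · calc 216 * (k + 5) ^ 6 * ((k + 4) * (k + 6)) ^ 2 < _ := h
          _ = _ := by ring
      · rw [Finset.prod_range_succ, Finset.prod_range_one,
          show 2 * (0 + 1) = 2 from rfl, show 2 * (1 + 1) = 4 from rfl,
          sub2 _ (by omega), sub4 _ (by omega), show k + 5 - 1 = k + 4 by omega]
        ring
    | succ n hn ih => exact hst n (by omega) ih
  by_cases hq5 : 5 ≤ q
  · exact h5 m hm hq5
  · exact h3 m (by omega) (by omega)

theorem num_U43 : sB 2 ^ 3 * 3265920 < NB (3 ^ 2) 3 2 ^ 3 := by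
  rw [sB_two, NB_two]; norm_num

theorem num_Uodd (m q : ℕ) (hm : 2 ≤ m) (hq : 2 ≤ q) :
    sB m ^ 3 * (q ^ (m * (2 * m + 1)) *
      ∏ i ∈ Finset.range m, ((q ^ (2 * (i + 1)) - 1) * (q ^ (2 * i + 3) + 1))) <
      NB (q ^ 2) (q ^ 3) m ^ 3 := by
  rw [← one_mul (NB (q ^ 2) (q ^ 3) m ^ 3)]
  induction m, hm using Nat.le_induction with
  | base =>
    obtain ⟨k, rfl⟩ : ∃ k, q = k + 2 := ⟨q - 2, by omega⟩
    have h := p_U5 k
    rw [sB_two, NB_two]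
    refine fin3 (A := 216 * (k + 2) ^ 10 * ((k + 1) * (k + 3)) ^ 2) (by positivity) ?_ ?_
    · calc 216 * (k + 2) ^ 10 * ((k + 1) * (k + 3)) ^ 2 < _ := h
        _ = _ := by ring
    · rw [Finset.prod_range_succ, Finset.prod_range_one,
        show 2 * (0 + 1) = 2 from rfl, show 2 * (1 + 1) = 4 from rfl,
        sub2 _ (by omega), sub4 _ (by omega), show k + 2 - 1 = k + 1 by omega]
      ring
  | succ n hn ih =>
    have e : q ^ ((n + 1) * (2 * (n + 1) + 1)) *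
        ∏ i ∈ Finset.range (n + 1), ((q ^ (2 * (i + 1)) - 1) * (q ^ (2 * i + 3) + 1)) =
        (q ^ (n * (2 * n + 1)) *
          ∏ i ∈ Finset.range n, ((q ^ (2 * (i + 1)) - 1) * (q ^ (2 * i + 3) + 1))) *
          (q ^ (4 * n + 3) * ((q ^ (2 * (n + 1)) - 1) * (q ^ (2 * n + 3) + 1))) := by
      rw [Finset.prod_range_succ, show (n + 1) * (2 * (n + 1) + 1) = n * (2 * n + 1) + (4 * n + 3) by ring,
        pow_add]
      ring
    rw [e, NB_succ]
    exact step (sB_succ_le n) ih (step_Uodd n q hn hq) (Nat.mul_pos (gsum_pos _ n) (by positivity))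

theorem num_U3 (q : ℕ) (hq : 8 ≤ q) :
    2 ^ 3 * (q ^ 3 * ((q ^ 2 - 1) * (q ^ 3 + 1))) < (1 + q ^ 3) ^ 3 := by
  obtain ⟨k, rfl⟩ : ∃ k, q = k + 8 := ⟨q - 8, by omega⟩
  have h := p_U3 k
  rw [sub2 _ (by omega), ← one_mul ((1 + (k + 8) ^ 3) ^ 3)]
  refine fin3 (A := 8 * (k + 8) ^ 3 * ((k + 7) * (k + 9))) (by positivity) ?_ ?_
  · calc 8 * (k + 8) ^ 3 * ((k + 7) * (k + 9)) < _ := h
      _ = _ := by ring
  · rw [show k + 8 - 1 = k + 7 by omega]; ring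

theorem num_2D (m q : ℕ) (hm : 3 ≤ m) (hq : 2 ≤ q) :
    sB m ^ 3 * (q ^ (m * (m + 1)) * (q ^ (m + 1) + 1) * ∏ i ∈ Finset.range m, (q ^ (2 * (i + 1)) - 1)) <
      NB q (q ^ 2) m ^ 3 := by
  rw [← one_mul (NB q (q ^ 2) m ^ 3)]
  induction m, hm using Nat.le_induction with
  | base =>
    obtain ⟨k, rfl⟩ : ∃ k, q = k + 2 := ⟨q - 2, by omega⟩
    have h := p_2D k
    rw [sB_three, NB_three]
    refine fin3 (A := 8000 * (k + 2) ^ 12 * (1 + (k + 2)) * (k + 1) ^ 3) (by positivity) ?_ ?_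
    · calc 8000 * (k + 2) ^ 12 * (1 + (k + 2)) * (k + 1) ^ 3 < _ := h
        _ = _ := by ring
    · rw [Finset.prod_range_succ, Finset.prod_range_succ, Finset.prod_range_one,
        show 2 * (0 + 1) = 2 from rfl, show 2 * (1 + 1) = 4 from rfl, show 2 * (2 + 1) = 6 from rfl,
        sub2 _ (by omega), sub4 _ (by omega), sub6 _ (by omega), show k + 2 - 1 = k + 1 by omega]
      ring
  | succ n hn ih =>
    have e : q ^ ((n + 1) * (n + 1 + 1)) * (q ^ (n + 1 + 1) + 1) *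
        ∏ i ∈ Finset.range (n + 1), (q ^ (2 * (i + 1)) - 1) =
        (q ^ (n * (n + 1)) * (q ^ (n + 1) + 1) * ∏ i ∈ Finset.range n, (q ^ (2 * (i + 1)) - 1)) *
          (q ^ (2 * n + 2) * ((q ^ (n + 2) + 1) * (q ^ (n + 1) - 1))) := by
      have e1 : q ^ (2 * (n + 1)) - 1 = (q ^ (n + 1) - 1) * (q ^ (n + 1) + 1) := by
        rw [← sub2 _ (Nat.one_le_pow _ _ (by omega)), ← pow_mul, Nat.mul_comm]
      rw [Finset.prod_range_succ, e1, show (n + 1) * (n + 1 + 1) = n * (n + 1) + (2 * n + 2) by ring, pow_add]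
      ring
    rw [e, NB_succ]
    exact step (sB_succ_le n) ih (step_2D n q hn hq) (Nat.mul_pos (gsum_pos _ n) (by positivity))

theorem num_D (m q : ℕ) (hm : 4 ≤ m) (hq : 2 ≤ q) :
    sB m ^ 3 * (q ^ (m * (m - 1)) * (q ^ m - 1) * ∏ i ∈ Finset.range (m - 1), (q ^ (2 * (i + 1)) - 1)) <
      ND q m ^ 3 := by
  rw [← one_mul (ND q m ^ 3)]
  induction m, hm using Nat.le_induction with
  | base =>
    rcases Nat.lt_or_ge q 3 with h3 | h3
    · obtain rfl : q = 2 := by omega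
      rw [sB_four, ND_four, show 4 - 1 = 3 from rfl, Finset.prod_range_succ, Finset.prod_range_succ,
        Finset.prod_range_one]
      norm_num
    obtain ⟨k, rfl⟩ : ∃ k, q = k + 3 := ⟨q - 3, by omega⟩
    have h := p_D k
    rw [sB_four, ND_four]
    refine fin3 (A := 438976 * (k + 3) ^ 12 * (k + 2) ^ 4) (by positivity) ?_ ?_
    · calc 438976 * (k + 3) ^ 12 * (k + 2) ^ 4 < _ := h
        _ = _ := by ring
    · rw [show 4 - 1 = 3 from rfl, Finset.prod_range_succ, Finset.prod_range_succ, Finset.prod_range_one,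
        show 2 * (0 + 1) = 2 from rfl, show 2 * (1 + 1) = 4 from rfl, show 2 * (2 + 1) = 6 from rfl,
        sub2 _ (by omega), sub4 _ (by omega), sub6 _ (by omega), show k + 3 - 1 = k + 2 by omega]
      ring
  | succ n hn ih =>
    have e : q ^ ((n + 1) * (n + 1 - 1)) * (q ^ (n + 1) - 1) *
        ∏ i ∈ Finset.range (n + 1 - 1), (q ^ (2 * (i + 1)) - 1) =
        (q ^ (n * (n - 1)) * (q ^ n - 1) * ∏ i ∈ Finset.range (n - 1), (q ^ (2 * (i + 1)) - 1)) *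
          (q ^ (2 * n) * ((q ^ (n + 1) - 1) * (q ^ n + 1))) := by
      obtain ⟨k, rfl⟩ : ∃ k, n = k + 1 := ⟨n - 1, by omega⟩
      have e1 : q ^ (2 * (k + 1)) - 1 = (q ^ (k + 1) - 1) * (q ^ (k + 1) + 1) := by
        rw [← sub2 _ (Nat.one_le_pow _ _ (by omega)), ← pow_mul, Nat.mul_comm]
      rw [Nat.add_sub_cancel, Nat.add_sub_cancel, Finset.prod_range_succ, e1,
        show (k + 1 + 1) * (k + 1) = (k + 1) * k + 2 * (k + 1) by ring, pow_add]
      ring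
    rw [e, ND_succ _ _ (by omega)]
    exact step (sB_succ_le n) ih (step_D n q hn hq) (Nat.mul_pos (gsum_pos _ n) (by positivity))

end Cfsg.Agent.H807.CubeNum
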