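import Cfsg.Agent.H383.Cube.Num
import Cfsg.Agent.Mrg.Omega.ML.Ex.Typ.List
import Cfsg.Agent.Nodes.CardWitt
import Cfsg.Agent.ClassicalGeometry.HermLines

/-!
# The orders of the simple root groups of the classical groups (task of helper383, S5721)

`par_PSp`, `par_PSU_even`, `par_PSU_odd`, `par_PO_odd`, `par_PO_minus`, `par_PO_plus` : `HasPar p M q G`.
-/

set_option autoImplicit false

namespace Cfsg.Agent.H807.CubePar

open Cfsg
open CoxeterSystem Cfsg.Agent.ChevalleyStructure.CoxeterGeom Cfsg.Agent.Tits.Roots Cfsg.Agent.Tits.Core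
  Cfsg.Agent.Nodes.Comb Cfsg.Agent.Nodes.Reps Cfsg.Agent.Nodes.BNOf
  Cfsg.Agent.Nodes.RGDLib Cfsg.Agent.Nodes.Bruhat
open Cfsg.Agent.Nodes Cfsg.Agent.Nodes.WittAll Cfsg.Agent.Nodes.WittU Cfsg.Agent.Nodes.WittInst
  Cfsg.Agent.Nodes.WittRoot Cfsg.Agent.Nodes.CardWitt Cfsg.Agent.Nodes.CardSup
  Cfsg.Agent.TitsThree Cfsg.Agent.TitsThree.Siegel Cfsg.Agent.TitsThree.SiegelGen
  Cfsg.Agent.TitsThree.WittFrame Cfsg.Agent.TitsThree.WBridge Cfsg.Agent.TitsThree.WittWeyl
  Cfsg.Agent.TitsThree.FrameCN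
open Cfsg.Agent.H383.Cube

theorem GG_eq_top {I W Y : Type*} [Fintype I] [DecidableEq I] [Group W] [Group Y] {M : CoxeterMatrix I}
    {cs : CoxeterSystem M W} {A : I → I → ℤ} {h : IsCartan M A} {T : Subgroup Y} {X : (I → ℤ) → Subgroup Y}
    (hX : G1 cs h X = ⊤) : GG cs h T X = ⊤ := by
  rw [eq_top_iff, ← hX]
  exact le_sup_right

/-! ### Type `B_n` -/

section TypeC

open Cfsg.Agent.Nodes.TypeC Cfsg.Agent.Nodes.WittRGD

variable {F : Type*} [Field F] {V : Type*} [AddCommGroup V] [Module F V] {H : HForm F V} {n : ℕ}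
  {Fr : Frame H (Fin n)} {K : Type*} [Group K] (M : Model Fr K)

theorem card_XT {p : ℕ} (hA : AmbT Fr p M.I) [Finite V] [Fact p.Prime] [CharP F p] {p0 : Fr.Adm}
    (hp0 : p0.c ≠ 0) (i : Fin n) : Nat.card (WittModel.X M (sr i)) = Nat.card (rg Fr (sr i)) := by
  have : Finite (V ≃ₗ[F] V) := Finite.of_injective (fun g : V ≃ₗ[F] V => (g : V → V)) DFunLike.coe_injective
  let cs := (CoxeterMatrix.B n).toCoxeterSystem
  have : Finite (CoxeterMatrix.B n).Group := finite_W cs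
  have Rd := rgd_restrict (rgdC hA hp0 cs) M.I (fun x _ => hA.rg_le x) (fun i => WittAll.nn_mem hA p0 i)
  refine (card_map_X Rd M.φ (WittAll.ker_le_center M) (isRoot_sr cs _ i)).trans ?_
  exact Nat.card_congr (Subgroup.subgroupOfEquivOfLe (hA.rg_le (sr i))).toEquiv

/-- the short root groups -/
theorem card_short {p : ℕ} (hA : AmbT Fr p M.I) [Finite V] [Fact p.Prime] [CharP F p] {p0 : Fr.Adm}
    (hp0 : p0.c ≠ 0) {i : Fin n} (hi : (i : ℕ) + 1 < n) : Nat.card (WittModel.X M (sr i)) = Nat.card F := by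
  have hnx : nx i = (⟨i + 1, hi⟩, false) := by unfold nx; rw [dif_pos hi]
  have hne' : ((i, true) : Fin n × Bool).1 ≠ (nx i).1 := by rw [hnx]; simp [Fin.ext_iff]
  rw [card_XT M hA hp0, rg_sr, PG_ne Fr hne', card_XG Fr hne']

/-- the last root group -/
theorem card_last_ge [Finite K] {i : Fin n} (hi : ¬ (i : ℕ) + 1 < n) :
    Nat.card Fr.Adm ≤ Nat.card (WittModel.X M (sr i)) := by
  have hnx : nx i = (i, true) := by unfold nx; rw [dif_neg hi]
  refine Nat.card_le_card_of_injective (fun a : Fr.Adm => (⟨M.φ ⟨Fr.Z (i, true) a, M.hZ _ a⟩, ?_⟩ :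
    WittModel.X M (sr i))) ?_
  · apply WittModel.mem_X_of
    rw [rg_sr, hnx, PG_self]
    exact ⟨a, rfl⟩
  · intro a b e
    have e1 : M.φ ⟨Fr.Z (i, true) a, M.hZ _ a⟩ = M.φ ⟨Fr.Z (i, true) b, M.hZ _ b⟩ := congrArg Subtype.val e
    have e2 : M.φ ⟨Fr.Z (i, true) (a * b⁻¹), M.hZ _ (a * b⁻¹)⟩ = 1 := by
      have e3 : (⟨Fr.Z (i, true) (a * b⁻¹), M.hZ _ (a * b⁻¹)⟩ : M.I) * ⟨Fr.Z (i, true) b, M.hZ _ b⟩ =
          ⟨Fr.Z (i, true) a, M.hZ _ a⟩ := by
        apply Subtype.ext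
        change Fr.Z (i, true) (a * b⁻¹) * Fr.Z (i, true) b = Fr.Z (i, true) a
        rw [← Fr.Z_mul, inv_mul_cancel_right]
      have e4 := congrArg M.φ e3
      rw [map_mul, e1] at e4
      exact mul_eq_right.1 e4
    have e5 := Omega.ML.Ex.Lie2.SemiDat.eq_one_of_Z M e2
    exact mul_inv_eq_one.1 e5

theorem hasPar_C {p : ℕ} (hA : AmbT Fr p M.I) [Finite V] [Fact p.Prime] [CharP F p] [Finite K] {p0 : Fr.Adm}
    (hp0 : p0.c ≠ 0) (hn : 0 < n) {q : Fin n → ℕ} (h1 : ∀ i : Fin n, (i : ℕ) + 1 < n → q i ≤ Nat.card F)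
    (h2 : ∀ i : Fin n, ¬ (i : ℕ) + 1 < n → q i ≤ Nat.card Fr.Adm) : HasPar p (CoxeterMatrix.B n) q K :=
  ⟨Nodes.TypeC.A n, Nodes.TypeC.isCartan n, _, _, _, Nodes.TypeC.finite_W (CoxeterMatrix.B n).toCoxeterSystem,
    rgdC_model M hA hp0 _, GG_eq_top (WittModel.G1_eq_top _ hn _), fun i => by
      by_cases hi : (i : ℕ) + 1 < n
      · exact (h1 i hi).trans (card_short M hA hp0 hi).ge
      · exact (h2 i hi).trans (card_last_ge M hi)⟩

end TypeC

theorem par_PSp {F : Type*} [Field F] [Finite F] {m : ℕ} (hm : 2 ≤ m) {p : ℕ} [Fact p.Prime] [CharP F p] :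
    HasPar p (CoxeterMatrix.B m) (fun _ => Nat.card F) (PSp m F) := by
  have := Omega.ML.Ex.Typ.finite_adm (SpIdent.frame m F)
  have : Finite (PSp m F) := by infer_instance
  refine hasPar_C (KInstSp.model m F) (AmbT.of_amb amb_Sp p) (p0 := SpIdent.adm 1) one_ne_zero (by omega)
    (fun _ _ => le_rfl) fun _ _ => ?_
  exact Nat.card_le_card_of_injective (fun c : F => (SpIdent.adm c : (SpIdent.frame m F).Adm)) fun a b e =>
    congrArg Frame.Adm.c e

section Unitary

open Cfsg.Agent.LieClassical.HermBasic Cfsg.Agent.TitsThree.KSideU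

variable {F : Type*} [Field F] [Fintype F] {q m : ℕ}

theorem par_PSU_even (hF : Fintype.card F = q ^ 2) (hm : 2 ≤ m) {p : ℕ} [Fact p.Prime] [CharP F p] :
    HasPar p (CoxeterMatrix.B m) (fun i => if (i : ℕ) + 1 < m then q ^ 2 else q) (PSU (2 * m) F q) := by
  obtain ⟨W, hW⟩ := exists_wframe_even hF (N := 2 * m) rfl
  obtain ⟨p0, hp0, -⟩ := exists_adm hF W
  have := Omega.ML.Ex.Typ.finite_adm (toFrame W)
  have : Finite (PSU (2 * m) F q) := by infer_instance
  refine hasPar_C (KInstU.model hF (by omega) W) (AmbT.of_amb (amb_U hF W) p) hp0 (by omega)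
    (fun i hi => ?_) fun i hi => ?_
  · rw [if_pos hi, ← hF, Nat.card_eq_fintype_card]
  · rw [if_neg hi]
    have h0 : (0 : F) ^ q = 0 := zero_pow_q hF
    refine (ClassicalGeometry.HermLines.card_trace_eq hF h0).ge.trans ?_
    refine Nat.card_le_card_of_injective (fun c : {s : F // s + s ^ q = 0} =>
      (⟨0, c.1, W.V0.zero_mem, ?_⟩ : (toFrame W).Adm)) fun a b e => Subtype.ext (congrArg Frame.Adm.c e)
    rw [ok_iff, herm_zero_left, neg_zero]
    exact c.2

theorem par_PSU_odd (hF : Fintype.card F = q ^ 2) (hm : 1 ≤ m) {p : ℕ} [Fact p.Prime] [CharP F p] :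
    HasPar p (CoxeterMatrix.B m) (fun i => if (i : ℕ) + 1 < m then q ^ 2 else q ^ 3) (PSU (2 * m + 1) F q) := by
  obtain ⟨W, d, hd, hW⟩ := exists_wframe_odd hF (N := 2 * m + 1) rfl
  obtain ⟨p0, hp0, -⟩ := exists_adm hF W
  have := Omega.ML.Ex.Typ.finite_adm (toFrame W)
  have : Finite (PSU (2 * m + 1) F q) := by infer_instance
  have hd0 : d ≠ 0 := by
    rintro rfl
    rw [herm_zero_left] at hd
    exact zero_ne_one hd
  refine hasPar_C (KInstU.model hF (by omega) W) (AmbT.of_amb (amb_U hF W) p) hp0 (by omega)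
    (fun i hi => ?_) fun i hi => ?_
  · rw [if_pos hi, ← hF, Nat.card_eq_fintype_card]
  · rw [if_neg hi]
    have h1 : Nat.card (Σ a : F, {s : F // s + s ^ q = -hermForm (2 * m + 1) F q (a • d) (a • d)}) = q ^ 3 := by
      rw [Nat.card_sigma, Finset.sum_congr rfl (g := fun _ => q), Finset.sum_const, Finset.card_univ, hF,
        smul_eq_mul, ← pow_succ]
      intro a _
      exact ClassicalGeometry.HermLines.card_trace_eq hF (by rw [neg_pow_q hF, herm_self_pow hF])
    refine h1.ge.trans ?_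
    refine Nat.card_le_card_of_injective
      (fun x : Σ a : F, {s : F // s + s ^ q = -hermForm (2 * m + 1) F q (a • d) (a • d)} =>
        (⟨x.1 • d, x.2.1, ?_, x.2.2⟩ : (toFrame W).Adm)) ?_
    · rw [hW]
      exact Submodule.smul_mem _ _ (Submodule.mem_span_singleton_self d)
    · rintro ⟨a, s, hs⟩ ⟨b, t, ht⟩ e
      have e1 : a • d = b • d := congrArg Frame.Adm.w e
      have e2 : s = t := congrArg Frame.Adm.c e
      obtain rfl : a = b := smul_left_injective F hd0 e1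
      subst e2
      rfl

end Unitary

/-! ### Orthogonal groups -/

section Orthogonal

open QuadraticMap
open Cfsg.Agent.LieClassical Cfsg.Agent.LieClassical.OrthCore Cfsg.Agent.LieClassical.OrthTrans
open Cfsg.Agent.LieClassical.OrthSimple Cfsg.Agent.LieClassical.OrthFinite
open Cfsg.Agent.LieClassical.OrthForms
open Cfsg.Agent.TitsThree.KSideO Cfsg.Agent.TitsThree.StdData

variable {F : Type*} [Field F] [Finite F] {m : ℕ}

/-- **`PΩ_{2m+1}(F)`, `F` of odd characteristic.** -/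
theorem par_PO_odd (h2 : (2 : F) ≠ 0) (hm : 2 ≤ m) {p : ℕ} [Fact p.Prime] [CharP F p] :
    HasPar p (CoxeterMatrix.B m) (fun _ => Nat.card F) (Cfsg.POmega F (Cfsg.quadFormOdd m F)) := by
  have : Finite (Cfsg.POmega F (Cfsg.quadFormOdd m F)) := by infer_instance
  rw [← coe_oddForm] at this ⊢
  have hG : Good (oddForm m F) := by
    apply good_of_finite (nondeg_oddForm m F h2)
    rw [Module.finrank_fintype_fun_eq_card, Fintype.card_sum, Fintype.card_sum, Fintype.card_fin,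
      Fintype.card_unit]
    omega
  have hp : ((embOdd m F).ngt ⟨1, -1 ^ 2, rfl⟩).c ≠ 0 := by
    change (1 : F)⁻¹ * (-1 ^ 2) ≠ 0
    simp
  have := Omega.ML.Ex.Typ.finite_adm (toFrame (wodd m F))
  refine hasPar_C (model (wodd m F) hG ⟨_, hp⟩) (AmbT.of_amb (amb_O_of_two _ h2) p) hp (by omega)
    (fun _ _ => le_rfl) fun _ _ => ?_
  refine Nat.card_le_card_of_injective (fun w : F => (embOdd m F).ngt ⟨w, -w ^ 2, rfl⟩) fun a b e => ?_
  have e1 : (embOdd m F).j a = (embOdd m F).j b := congrArg Frame.Adm.w e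
  have e2 := congrFun e1 (Sum.inl ())
  simpa [embOdd] using e2

theorem par_PO_odd' (hF : Odd (Nat.card F)) (hm : 3 ≤ m) {p : ℕ} [Fact p.Prime] [CharP F p] :
    HasPar p (CoxeterMatrix.B m) (fun _ => Nat.card F) (Cfsg.POmega F (Cfsg.quadFormOdd m F)) := by
  refine par_PO_odd (fun h2 => ?_) (by omega)
  have h3 : CharP F 2 := CharTwo.of_one_ne_zero_of_two_eq_zero one_ne_zero h2
  have : Fintype F := Fintype.ofFinite F
  obtain ⟨k, -, hk⟩ := FiniteField.card F 2
  rw [Nat.card_eq_fintype_card, hk] at hF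
  exact absurd hF (by
    rw [Nat.not_odd_iff_even]
    exact (even_two).pow_of_ne_zero k.ne_zero)

/-- **`PΩ⁻_{2m+2}(F)`, every characteristic.** -/
theorem par_PO_minus {a b : F} (hab : ∀ z₁ z₂ : F, z₁ ^ 2 + a * z₁ * z₂ + b * z₂ ^ 2 = 0 → z₁ = 0 ∧ z₂ = 0)
    (hm : 3 ≤ m) {p : ℕ} [Fact p.Prime] [CharP F p] :
    HasPar p (CoxeterMatrix.B m) (fun i => if (i : ℕ) + 1 < m then Nat.card F else Nat.card F ^ 2)
      (Cfsg.POmega F (Cfsg.quadFormMinus m F a b)) := by
  have : Finite (Cfsg.POmega F (Cfsg.quadFormMinus m F a b)) := by infer_instance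
  rw [← coe_minusForm] at this ⊢
  have hG : Good (minusForm m F a b) := by
    apply good_of_finite (nondeg_minusForm m F a b hab)
    rw [Module.finrank_fintype_fun_eq_card, Fintype.card_sum, Fintype.card_sum, Fintype.card_fin,
      Fintype.card_fin]
    omega
  have hp : ((embMinus m F a b hab).ngt ⟨(1, 0), -nf a b (1, 0), rfl⟩).c ≠ 0 := by
    change (1 : F)⁻¹ * (-nf a b (1, 0)) ≠ 0
    simp [nf]
  have hA : AmbT (toFrame (wminus m F a b hab)) p (E (minusForm m F a b)) := by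
    by_cases h2 : (2 : F) = 0
    · have hp2 : p = 2 := by
        have h3 : CharP F 2 := CharTwo.of_one_ne_zero_of_two_eq_zero one_ne_zero h2
        exact CharP.eq F ‹CharP F p› h3
      subst hp2
      exact ambT_O _ fun g hg hg2 hb => fixp_minus a b hab h2 (by omega) hG hg hg2 hb
    · exact AmbT.of_amb (amb_O_of_two _ h2) p
  have := Omega.ML.Ex.Typ.finite_adm (toFrame (wminus m F a b hab))
  refine hasPar_C (model (wminus m F a b hab) hG ⟨_, hp⟩) hA hp (by omega)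
    (fun i hi => by rw [if_pos hi]) fun i hi => ?_
  rw [if_neg hi, _root_.sq, ← Nat.card_prod]
  refine Nat.card_le_card_of_injective (fun w : F × F => (embMinus m F a b hab).ngt ⟨w, -nf a b w, rfl⟩)
    fun x y e => ?_
  have e1 : (embMinus m F a b hab).j x = (embMinus m F a b hab).j y := congrArg Frame.Adm.w e
  have e2 := congrFun e1 (Sum.inr 0)
  have e3 := congrFun e1 (Sum.inr 1)
  exact Prod.ext (by simpa [embMinus] using e2) (by simpa [embMinus] using e3)

/-- **`PΩ⁺_{2(n+3)}(F)`, every characteristic.** -/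
theorem par_PO_plus (n : ℕ) {p : ℕ} [Fact p.Prime] [CharP F p] :
    HasPar p (Nodes.TypeD.M (n + 1)) (fun _ => Nat.card F) (Cfsg.POmega F (Cfsg.quadFormPlus (n + 3) F)) := by
  rw [← coe_plusForm]
  have hG : Good (plusForm (n + 3) F) := by
    apply good_of_finite (nondeg_plusForm (n + 3) F)
    rw [Module.finrank_fintype_fun_eq_card, Fintype.card_sum, Fintype.card_fin]
    omega
  refine ⟨Nodes.TypeD.A (n + 1), Nodes.TypeD.isCartan (n + 1), _, _, _,
    Nodes.TypeD.finite_W (Nodes.TypeD.M (n + 1)).toCoxeterSystem,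
    rgdD_model (wplus (n + 3) F) hG (amb_plus _) (adm_plus _) _,
    GG_eq_top (G1D_eq_top (wplus (n + 3) F) (toPOmega hG) (toPOmega_surjective hG) (adm_plus _) _), fun i => ?_⟩
  let V := (Fin (n + 3) ⊕ Fin (n + 3)) → F
  have : Finite (V ≃ₗ[F] V) := Finite.of_injective (fun g : V ≃ₗ[F] V => (g : V → V)) DFunLike.coe_injective
  let cs := (Nodes.TypeD.M (n + 1)).toCoxeterSystem
  have : Finite (Nodes.TypeD.M (n + 1)).Group := Nodes.TypeD.finite_W cs
  have Rd := rgd_restrict (rgdD (amb_plus (n + 3)) (adm_plus (n + 3)) cs) (E (plusForm (n + 3) F))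
    (fun x _ => rgD_le (wplus (n + 3) F) (amb_plus _) x) (fun i => WittRGDD.nn_mem (amb_plus _) i) (p := p)
  refine le_of_eq (Eq.symm ?_)
  refine (card_map_X Rd (toPOmega hG) (ker_toPOmega hG) (isRoot_sr cs _ i)).trans ?_
  refine (Nat.card_congr (Subgroup.subgroupOfEquivOfLe (rgD_le (wplus (n + 3) F) (amb_plus _) (sr i))).toEquiv).trans ?_
  rw [WittRGDD.rg_sr]
  exact card_XG _ (Nodes.TypeD.ok_nx i)

end Orthogonal

end Cfsg.Agent.H807.CubePar
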