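import Cfsg.Agent.GenOrth.Normal
import Cfsg.Agent.LieClassical.OrthFourCommon
import Cfsg.Agent.LieClassical.OrthCenter
import Cfsg.Agent.Fischer919.OmegaIdent
import Cfsg.Agent.S0816
import Cfsg.Agent.S0817
import Cfsg.Agent.S0818

/-!
# The orders of the automorphism groups of `PΩ(Q)` over the fields with two and three elements
-/

set_option autoImplicit false

namespace Cfsg.Agent.H807.AutCases

open Cfsg Cfsg.Agent.GenOrth Cfsg.Agent.LieClassical.OrthFourCommon
  Cfsg.Agent.ClassicalGeometry.OddInvolutions Cfsg.Agent.LieClassical.OrthCore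

/-- similar forms have isomorphic `PΩ` -/
theorem sim_pomega {F : Type*} [Field F] {n : ℕ} {Q : QuadraticForm F (Fin n → F)} {ι : Type} [Fintype ι]
    [DecidableEq ι] {q : (ι → F) → F} (h : Sim Q q) : Nonempty (POmega F (⇑Q) ≃* POmega F q) := by
  obtain ⟨c, hc, j, hj⟩ := h
  obtain ⟨e1⟩ := exists_isometryGroup_equiv j (fun x => c * q x) (⇑Q) hj
  obtain ⟨e2⟩ := exists_isometryGroup_equiv (LinearEquiv.refl F (Fin n → F)) (⇑Q) (⇑Q) (fun _ => rfl)
  have e3 : isometryGroup F (fun x => c * q x) ≃* isometryGroup F q :=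
    MulEquiv.subgroupCongr (Cfsg.Agent.Fischer919.OmegaIdent.isometryGroup_smul q hc)
  exact commutator_quot_center_congr (e2.trans (e1.symm.trans e3))

theorem card_mulAut_congr {A B : Type*} [Group A] [Group B] (e : A ≃* B) :
    Nat.card (MulAut A) = Nat.card (MulAut B) := Nat.card_congr (MulAut.congr e).toEquiv

/-- only the hyperbolic form in dimension eight has outer automorphisms of order three -/
theorem aut_cases (p : ℕ) [Fact p.Prime] {N : ℕ} (hN : 7 ≤ N) (h2 : p = 2 → Even N)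
    (Q : QuadraticForm (ZMod p) (Fin N → ZMod p)) (hQ : Nondeg Q) :
    Nonempty (POmega (ZMod p) (⇑Q) ≃* POmega (ZMod p) (quadFormPlus 4 (ZMod p))) ∨
      ∃ k, Nat.card (MulAut (POmega (ZMod p) (⇑Q))) = 2 ^ k * Nat.card (POmega (ZMod p) (⇑Q)) := by
  have hF : Fintype.card (ZMod p) = p ^ 1 := by rw [ZMod.card, pow_one]
  rcases normal_form N hQ (by simp) with ⟨k, hk, hs⟩ | ⟨k, hk, hs⟩ | ⟨k, hk, a, b, hab, hs⟩
  · right
    obtain ⟨e⟩ := sim_pomega hs
    have hodd : Odd p := by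
      rcases (Fact.out : p.Prime).eq_two_or_odd' with h | h
      · exfalso
        have := h2 h
        rw [hk] at this
        exact absurd this (by simp [parity_simps])
      · exact h
    refine ⟨1, ?_⟩
    rw [card_mulAut_congr e, Nat.card_congr e.toEquiv,
      Cfsg.Agent.S0816.result p 1 le_rfl hF hodd k (by omega)]
    norm_num
  · obtain ⟨e⟩ := sim_pomega hs
    by_cases h4 : k = 4
    · subst h4
      exact Or.inl ⟨e⟩
    · right
      have h5 := Cfsg.Agent.S0817.result (F := ZMod p) p 1 le_rfl hF k (by omega)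
      rw [if_neg h4, one_mul, mul_one] at h5
      rw [card_mulAut_congr e, Nat.card_congr e.toEquiv, h5]
      split_ifs
      · exact ⟨1, rfl⟩
      · exact ⟨3, rfl⟩
      · exact ⟨2, rfl⟩
  · right
    obtain ⟨e⟩ := sim_pomega hs
    obtain ⟨m, rfl⟩ : ∃ m, k = m - 1 := ⟨k + 1, by omega⟩
    have h5 := Cfsg.Agent.S0818.result (F := ZMod p) p 1 le_rfl hF m (by omega) a b hab
    rw [mul_one] at h5
    rw [card_mulAut_congr e, Nat.card_congr e.toEquiv, h5]
    split_ifs
    · exact ⟨1, rfl⟩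
    · exact ⟨2, rfl⟩
    · exact ⟨3, rfl⟩

/-- the automorphism group of `PΩ⁺(8, 2)` -/
theorem card_aut_two : Nat.card (MulAut (POmega (ZMod 2) (quadFormPlus 4 (ZMod 2)))) =
    6 * Nat.card (POmega (ZMod 2) (quadFormPlus 4 (ZMod 2))) := by
  have h5 := Cfsg.Agent.S0817.result (F := ZMod 2) 2 1 le_rfl (by rw [ZMod.card, pow_one]) 4 le_rfl
  rw [h5]
  norm_num

/-- the automorphism group of `PΩ⁺(8, 3)` -/
theorem card_aut_three : Nat.card (MulAut (POmega (ZMod 3) (quadFormPlus 4 (ZMod 3)))) =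
    24 * Nat.card (POmega (ZMod 3) (quadFormPlus 4 (ZMod 3))) := by
  have h5 := Cfsg.Agent.S0817.result (F := ZMod 3) 3 1 le_rfl (by rw [ZMod.card, pow_one]) 4 le_rfl
  rw [h5]
  have : Even (4 * (3 ^ 1 - 1) / 2) := by decide
  rw [if_pos rfl, if_neg (by norm_num), if_pos this]

/-- `PΩ⁺(8, 2) = Ω⁺(8, 2)` -/
theorem omega_eight_two : Nonempty (POmega (ZMod 2) (quadFormPlus 4 (ZMod 2)) ≃*
    Omega (ZMod 2) (quadFormPlus 4 (ZMod 2))) := by
  have hc : Subgroup.center (Omega (ZMod 2) (⇑(Cfsg.Agent.LieClassical.OmegaReindex.quadPlus 4 (ZMod 2)))) = ⊥ :=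
    Cfsg.Agent.LieClassical.OrthCenter.center_omega_eq_bot_char_two (by decide)
      (Cfsg.Agent.LieClassical.OmegaReindex.quadPlus_nondegenerate) (by simp)
      (Cfsg.Agent.LieClassical.OmegaReindex.quadPlus_isotropic (by norm_num))
  rw [Cfsg.Agent.LieClassical.OmegaReindex.coe_quadPlus] at hc
  exact ⟨(QuotientGroup.quotientMulEquivOfEq hc).trans QuotientGroup.quotientBot⟩

end Cfsg.Agent.H807.AutCases
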