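import Mathlib

/-!
# Polynomial inequalities for S5721 (task of helper383)
-/

set_option autoImplicit false

namespace Cfsg.Agent.H807.CubeNum


theorem p_C2o (k : ℕ) : 108 * (k + 7) ^ 4 * (k + 6) ^ 2 < (1 + (k + 7)) ^ 4 * (1 + (k + 7) ^ 2) ^ 2 := by
  have h : 108 * (k + 7) ^ 4 * (k + 6) ^ 2 + (904912 + 2408368 * k + 1859124 * k ^ 2 + 700432 * k ^ 3 + 150476 * k ^ 4 + 19352 * k ^ 5 + 1468 * k ^ 6 + 60 * k ^ 7 + 1 * k ^ 8) = (1 + (k + 7)) ^ 4 * (1 + (k + 7) ^ 2) ^ 2 := by ring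
  have h0 : 0 < 904912 + 2408368 * k + 1859124 * k ^ 2 + 700432 * k ^ 3 + 150476 * k ^ 4 + 19352 * k ^ 5 + 1468 * k ^ 6 + 60 * k ^ 7 + 1 * k ^ 8 := by positivity
  exact lt_of_lt_of_eq (Nat.lt_add_of_pos_right h0) h

theorem p_C2e (k : ℕ) : 216 * (k + 16) ^ 4 * (k + 15) ^ 2 < (1 + (k + 16)) ^ 4 * (1 + (k + 16) ^ 2) ^ 2 := by
  have h : 216 * (k + 16) ^ 4 * (k + 15) ^ 2 + (2331428929 + 1450812676 * k + 371246664 * k ^ 2 + 51979660 * k ^ 3 + 4397558 * k ^ 4 + 231356 * k ^ 5 + 7408 * k ^ 6 + 132 * k ^ 7 + 1 * k ^ 8) = (1 + (k + 16)) ^ 4 * (1 + (k + 16) ^ 2) ^ 2 := by ring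
  have h0 : 0 < 2331428929 + 1450812676 * k + 371246664 * k ^ 2 + 51979660 * k ^ 3 + 4397558 * k ^ 4 + 231356 * k ^ 5 + 7408 * k ^ 6 + 132 * k ^ 7 + 1 * k ^ 8 := by positivity
  exact lt_of_lt_of_eq (Nat.lt_add_of_pos_right h0) h

theorem p_C3 (k : ℕ) : 8000 * (k + 2) ^ 9 * (k + 1) ^ 3 < ((1 + (k + 2)) ^ 2 * (1 + (k + 2) ^ 2) * (1 + (k + 2) + (k + 2) ^ 2) * (1 + (k + 2) ^ 3)) ^ 2 := by
  have h : 8000 * (k + 2) ^ 9 * (k + 1) ^ 3 + (3941225 + 25770210 * k + 84983379 * k ^ 2 + 189298388 * k ^ 3 + 315477747 * k ^ 4 + 407575818 * k ^ 5 + 412459191 * k ^ 6 + 328141332 * k ^ 7 + 205835874 * k ^ 8 + 102123808 * k ^ 9 + 40188058 * k ^ 10 + 12562892 * k ^ 11 + 3115519 * k ^ 12 + 608714 * k ^ 13 + 92123 * k ^ 14 + 10444 * k ^ 15 + 835 * k ^ 16 + 42 * k ^ 17 + 1 * k ^ 18) = ((1 + (k + 2)) ^ 2 * (1 + (k + 2) ^ 2) * (1 + (k + 2) + (k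 + 2) ^ 2) * (1 + (k + 2) ^ 3)) ^ 2 := by ring
  have h0 : 0 < 3941225 + 25770210 * k + 84983379 * k ^ 2 + 189298388 * k ^ 3 + 315477747 * k ^ 4 + 407575818 * k ^ 5 + 412459191 * k ^ 6 + 328141332 * k ^ 7 + 205835874 * k ^ 8 + 102123808 * k ^ 9 + 40188058 * k ^ 10 + 12562892 * k ^ 11 + 3115519 * k ^ 12 + 608714 * k ^ 13 + 92123 * k ^ 14 + 10444 * k ^ 15 + 835 * k ^ 16 + 42 * k ^ 17 + 1 * k ^ 18 := by positivity
  exact lt_of_lt_of_eq (Nat.lt_add_of_pos_right h0) h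

theorem p_U4 (k : ℕ) : 216 * (k + 5) ^ 6 * ((k + 4) * (k + 6)) ^ 2 < (1 + (k + 5)) ^ 3 * (1 + (k + 5) ^ 2) ^ 2 * (1 + (k + 5) ^ 3) ^ 2 := by
  have h : 216 * (k + 5) ^ 6 * ((k + 4) * (k + 6)) ^ 2 + (374150016 + 1749169728 * k + 2872095840 * k ^ 2 + 2558862144 * k ^ 3 + 1450929888 * k ^ 4 + 565596900 * k ^ 5 + 157874832 * k ^ 6 + 32193348 * k ^ 7 + 4821282 * k ^ 8 + 525913 * k ^ 9 + 40768 * k ^ 10 + 2135 * k ^ 11 + 68 * k ^ 12 + 1 * k ^ 13) = (1 + (k + 5)) ^ 3 * (1 + (k + 5) ^ 2) ^ 2 * (1 + (k + 5) ^ 3) ^ 2 := by ring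
  have h0 : 0 < 374150016 + 1749169728 * k + 2872095840 * k ^ 2 + 2558862144 * k ^ 3 + 1450929888 * k ^ 4 + 565596900 * k ^ 5 + 157874832 * k ^ 6 + 32193348 * k ^ 7 + 4821282 * k ^ 8 + 525913 * k ^ 9 + 40768 * k ^ 10 + 2135 * k ^ 11 + 68 * k ^ 12 + 1 * k ^ 13 := by positivity
  exact lt_of_lt_of_eq (Nat.lt_add_of_pos_right h0) h

theorem p_U5 (k : ℕ) : 216 * (k + 2) ^ 10 * ((k + 1) * (k + 3)) ^ 2 < ((1 + (k + 2) ^ 2) * (1 + (k + 2) ^ 3) * (1 + (k + 2) ^ 5)) ^ 2 := by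
  have h : 216 * (k + 2) ^ 10 * ((k + 1) * (k + 3)) ^ 2 + (214569 + 4839264 * k + 34031286 * k ^ 2 + 128713914 * k ^ 3 + 315665865 * k ^ 4 + 550905930 * k ^ 5 + 722661621 * k ^ 6 + 738090054 * k ^ 7 + 601080130 * k ^ 8 + 396664002 * k ^ 9 + 214347774 * k ^ 10 + 95383714 * k ^ 11 + 34993838 * k ^ 12 + 10548058 * k ^ 13 + 2589885 * k ^ 14 + 510310 * k ^ 15 + 78813 * k ^ 16 + 9194 * k ^ 17 + 762 * k ^ 18 + 40 * k ^ 19 + 1 * k ^ 20) = ((1 + (k + 2) ^ 2) * (1 + (k + 2) ^ 3) * (1 + (k + 2) ^ 5)) ^ 2 := by ring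
  have h0 : 0 < 214569 + 4839264 * k + 34031286 * k ^ 2 + 128713914 * k ^ 3 + 315665865 * k ^ 4 + 550905930 * k ^ 5 + 722661621 * k ^ 6 + 738090054 * k ^ 7 + 601080130 * k ^ 8 + 396664002 * k ^ 9 + 214347774 * k ^ 10 + 95383714 * k ^ 11 + 34993838 * k ^ 12 + 10548058 * k ^ 13 + 2589885 * k ^ 14 + 510310 * k ^ 15 + 78813 * k ^ 16 + 9194 * k ^ 17 + 762 * k ^ 18 + 40 * k ^ 19 + 1 * k ^ 20 := by positivity
  exact lt_of_lt_of_eq (Nat.lt_add_of_pos_right h0) h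

theorem p_U3 (k : ℕ) : 8 * (k + 8) ^ 3 * ((k + 7) * (k + 9)) < (1 + (k + 8) ^ 3) ^ 2 := by
  have h : 8 * (k + 8) ^ 3 * ((k + 7) * (k + 9)) + (5121 + 34688 * k + 20720 * k ^ 2 + 5130 * k ^ 3 + 640 * k ^ 4 + 40 * k ^ 5 + 1 * k ^ 6) = (1 + (k + 8) ^ 3) ^ 2 := by ring
  have h0 : 0 < 5121 + 34688 * k + 20720 * k ^ 2 + 5130 * k ^ 3 + 640 * k ^ 4 + 40 * k ^ 5 + 1 * k ^ 6 := by positivity
  exact lt_of_lt_of_eq (Nat.lt_add_of_pos_right h0) h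

theorem p_2D (k : ℕ) : 8000 * (k + 2) ^ 12 * (1 + (k + 2)) * (k + 1) ^ 3 < ((1 + (k + 2)) * (1 + (k + 2) + (k + 2) ^ 2) * (1 + (k + 2) ^ 2) * (1 + (k + 2) ^ 3) * (1 + (k + 2) ^ 4)) ^ 2 := by
  have h : 8000 * (k + 2) ^ 12 * (1 + (k + 2)) * (k + 1) ^ 3 + (159780225 + 1696014460 * k + 8802723114 * k ^ 2 + 29502774060 * k ^ 3 + 71210605227 * k ^ 4 + 131084998032 * k ^ 5 + 190602537474 * k ^ 6 + 224158917536 * k ^ 7 + 216879693943 * k ^ 8 + 174823531180 * k ^ 9 + 118519980364 * k ^ 10 + 68038670052 * k ^ 11 + 33223157554 * k ^ 12 + 13829717108 * k ^ 13 + 4907217036 * k ^ 14 + 1480476172 * k ^ 15 + 377770087 * k ^ 16 + 80846392 * k ^ 17 + 14333226 * k ^ 18 + 2068304 * k ^ 19 + 236803 * k ^ 20 + 20700 * k ^ 21 + 1298 * k ^ 22 + 52 * k ^ 23 + 1 * k ^ 24) = ((1 + (k + 2)) * (1 + (k + 2) + (k + 2) ^ 2) * (1 + (k + 2) ^ 2) * (1 +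 (k + 2) ^ 3) * (1 + (k + 2) ^ 4)) ^ 2 := by ring
  have h0 : 0 < 159780225 + 1696014460 * k + 8802723114 * k ^ 2 + 29502774060 * k ^ 3 + 71210605227 * k ^ 4 + 131084998032 * k ^ 5 + 190602537474 * k ^ 6 + 224158917536 * k ^ 7 + 216879693943 * k ^ 8 + 174823531180 * k ^ 9 + 118519980364 * k ^ 10 + 68038670052 * k ^ 11 + 33223157554 * k ^ 12 + 13829717108 * k ^ 13 + 4907217036 * k ^ 14 + 1480476172 * k ^ 15 + 377770087 * k ^ 16 + 80846392 * k ^ 17 + 14333226 * k ^ 18 + 2068304 * k ^ 19 + 236803 * k ^ 20 + 20700 * k ^ 21 + 1298 * k ^ 22 + 52 * k ^ 23 + 1 * k ^ 24 := by positivity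
  exact lt_of_lt_of_eq (Nat.lt_add_of_pos_right h0) h

theorem p_D (k : ℕ) : 438976 * (k + 3) ^ 12 * (k + 2) ^ 4 < ((1 + (k + 3)) ^ 3 * (1 + (k + 3) + (k + 3) ^ 2) * (1 + (k + 3) ^ 2) ^ 2 * (1 + (k + 3) ^ 3)) ^ 2 := by
  have h : 438976 * (k + 3) ^ 12 * (k + 2) ^ 4 + (1694398649344 + 15080543320064 * k + 61513380980224 * k ^ 2 + 154365134217728 * k ^ 3 + 269233824459072 * k ^ 4 + 349008731015424 * k ^ 5 + 350752126428288 * k ^ 6 + 281254904127744 * k ^ 7 + 183675533612880 * k ^ 8 + 99174721714816 * k ^ 9 + 44770325804000 * k ^ 10 + 17034314012320 * k ^ 11 + 5492462455224 * k ^ 12 + 1505274069584 * k ^ 13 + 350834945360 * k ^ 14 + 69396760664 * k ^ 15 + 11593152641 * k ^ 16 + 1622356044 * k ^ 17 + 187881390 * k ^ 18 + 17692620 * k ^ 19 + 1320735 * k ^ 20 + 75212 * k ^ 21 + 3070 * k ^ 22 + 80 * k ^ 23 + 1 * k ^ 24) = ((1 +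 (k + 3)) ^ 3 * (1 + (k + 3) + (k + 3) ^ 2) * (1 + (k + 3) ^ 2) ^ 2 * (1 + (k + 3) ^ 3)) ^ 2 := by ring
  have h0 : 0 < 1694398649344 + 15080543320064 * k + 61513380980224 * k ^ 2 + 154365134217728 * k ^ 3 + 269233824459072 * k ^ 4 + 349008731015424 * k ^ 5 + 350752126428288 * k ^ 6 + 281254904127744 * k ^ 7 + 183675533612880 * k ^ 8 + 99174721714816 * k ^ 9 + 44770325804000 * k ^ 10 + 17034314012320 * k ^ 11 + 5492462455224 * k ^ 12 + 1505274069584 * k ^ 13 + 350834945360 * k ^ 14 + 69396760664 * k ^ 15 + 11593152641 * k ^ 16 + 1622356044 * k ^ 17 + 187881390 * k ^ 18 + 17692620 * k ^ 19 + 1320735 * k ^ 20 + 75212 * k ^ 21 + 3070 * k ^ 22 + 80 * k ^ 23 + 1 * k ^ 24 := by positivity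
  exact lt_of_lt_of_eq (Nat.lt_add_of_pos_right h0) h

end Cfsg.Agent.H807.CubeNum
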