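import Cfsg.Agent.Fischer919.OmegaR
import Cfsg.Agent.ClassicalGeometry.DiagNormal
import Cfsg.Agent.H807.Excl

/-!
# Blocks of type `R n`: exclusion of `R 6`
-/

set_option autoImplicit false

namespace Cfsg.Agent.H807.IdR

open Cfsg Cfsg.Agent.Fischer480.Defs Cfsg.Agent.SporadicStructure.FischerSpace
open Cfsg.Agent.Fischer919.OmegaR Cfsg.Agent.Fischer3.Orth3Basic
open Cfsg.Agent.H807.Tri Cfsg.Agent.H807.Excl

universe u

/-- the number of vectors of norm one -/
theorem ncard_norm_one {H : Type u} [Group H] [Finite H] {E : Set H} {n : ℕ}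
    {B : LinearMap.BilinForm (ZMod 3) (Fin n → ZMod 3)} {f : H → Fin n → ZMod 3}
    (h1 : ∀ x ∈ E, B (f x) (f x) = 1)
    (h3 : ∀ x ∈ E, ∀ y ∈ E, (f x = f y ∨ f x = - f y) → x = y)
    (h4 : ∀ v, B v v = 1 → ∃ x ∈ E, v = f x ∨ v = - f x) :
    {v | B v v = 1}.ncard = 2 * E.ncard := by
  have hS : {v | B v v = 1} = f '' E ∪ (fun x => - f x) '' E := by
    ext v
    constructor
    · intro hv
      obtain ⟨x, hx, h | h⟩ := h4 v hv
      · exact Or.inl ⟨x, hx, h.symm⟩
      · exact Or.inr ⟨x, hx, h.symm⟩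
    · rintro (⟨x, hx, rfl⟩ | ⟨x, hx, rfl⟩)
      · exact h1 x hx
      · show B (- f x) (- f x) = 1
        rw [map_neg, map_neg, LinearMap.neg_apply, neg_neg]
        exact h1 x hx
  have hd : Disjoint (f '' E) ((fun x => - f x) '' E) := by
    rw [Set.disjoint_left]
    rintro _ ⟨x, hx, rfl⟩ ⟨y, hy, hxy⟩
    have h5 := h3 x hx y hy (Or.inr hxy.symm)
    subst h5
    have h6 : f x = 0 := by
      have h7 : - f x = f x := hxy
      ext i
      have h8 := congrFun h7 i
      rw [Pi.neg_apply] at h8
      show f x i = 0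
      revert h8
      generalize f x i = c
      revert c
      decide
    have h7 := h1 x hx
    rw [h6] at h7
    simp at h7
  rw [hS, Set.ncard_union_eq hd (Set.toFinite _) (Set.toFinite _),
    Set.InjOn.ncard_image (fun x hx y hy hxy => h3 x hx y hy (Or.inl hxy)),
    Set.InjOn.ncard_image (fun x hx y hy hxy => h3 x hx y hy (Or.inl (neg_injective hxy)))]
  ring

/-- the two standard forms -/
def qd (d : ZMod 3) (v : Fin 6 → ZMod 3) : ZMod 3 :=
  d * (v 0) ^ 2 + ∑ i : Fin 5, (v i.succ) ^ 2

/-- number of solutions -/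
def cnt (d : ZMod 3) : ℕ := (Finset.univ.filter fun v : Fin 6 → ZMod 3 => qd d v = 1).card

theorem cnt_one : cnt 1 = 252 := by decide +kernel

theorem cnt_two : cnt 2 = 234 := by decide +kernel

/-- the form of the norm, in the shape needed for the normal form -/
theorem exists_basis_form {n : ℕ} {B : LinearMap.BilinForm (ZMod 3) (Fin (n + 1) → ZMod 3)}
    (F : Form B) (hB : B.Nondegenerate) :
    ∃ (g : (Fin (n + 1) → ZMod 3) ≃ₗ[ZMod 3] (Fin (n + 1) → ZMod 3)) (d : ZMod 3), d ≠ 0 ∧
      ∀ v, B (g v) (g v) = d * (v 0) ^ 2 + ∑ i : Fin n, (v i.succ) ^ 2 := by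
  have hnd : (QuadraticMap.polarBilin (QB B)).Nondegenerate := by
    have h1 : QuadraticMap.polarBilin (QB B) = (2 : ZMod 3) • B := by
      ext v w
      simp only [QuadraticMap.polarBilin_apply_apply, LinearMap.smul_apply, LinearMap.comp_apply]
      exact polar_QB F _ _
    rw [h1]
    constructor
    · intro v hv
      apply hB.1
      intro w
      have h2 := hv w
      rw [LinearMap.smul_apply, LinearMap.smul_apply, smul_eq_mul] at h2
      revert h2
      generalize B v w = c
      revert c
      decide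
    · intro v hv
      apply hB.2
      intro w
      have h2 := hv w
      rw [LinearMap.smul_apply, LinearMap.smul_apply, smul_eq_mul] at h2
      revert h2
      generalize B w v = c
      revert c
      decide
  obtain ⟨g, d, hd, hg⟩ := Cfsg.Agent.ClassicalGeometry.DiagNormal.exists_normal_form
    (show (2 : ZMod 3) ≠ 0 by decide) (QB B) hnd
  exact ⟨g, d, hd, fun v => hg v⟩

variable {G : Type u} [Group G] {D : Set G} {L : Subgroup G}

theorem sum_single (c : ZMod 3) (i : Fin 5) :
    c * (Pi.single i.succ 1 : Fin 6 → ZMod 3) 0 ^ 2 +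
      ∑ k : Fin 5, (Pi.single i.succ 1 : Fin 6 → ZMod 3) k.succ ^ 2 = 1 := by
  revert c i
  decide

theorem sum_single_add (c : ZMod 3) (i j : Fin 5) (hij : i ≠ j) :
    c * (Pi.single i.succ 1 + Pi.single j.succ 1 : Fin 6 → ZMod 3) 0 ^ 2 +
      ∑ k : Fin 5, (Pi.single i.succ 1 + Pi.single j.succ 1 : Fin 6 → ZMod 3) k.succ ^ 2 = 2 := by
  revert hij
  revert c i j
  decide

theorem not_isR_six [Finite G] (C : Cfg D L) {d : G} (hd : d ∈ D) : ¬ IsR 6 (EE D L d) := by
  rintro ⟨B, f, hs, hB, h1, h2, h3, h4⟩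
  have F : Form B := ⟨fun v w => hs.eq v w, fun v hv => hB.1 v hv⟩
  obtain ⟨g, c, hc, hg⟩ := exists_basis_form F hB
  -- the number of members
  have hn := ncard_norm_one h1 h3 h4
  have hcard : {v | B v v = 1}.ncard = cnt c := by
    have h5 : {v | B v v = 1} = g '' {v | qd c v = 1} := by
      ext v
      constructor
      · intro hv
        refine ⟨g.symm v, ?_, by simp⟩
        show qd c (g.symm v) = 1
        rw [qd, ← hg, LinearEquiv.apply_symm_apply]
        exact hv
      · rintro ⟨w, hw, rfl⟩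
        show B (g w) (g w) = 1
        rw [hg]
        exact hw
    rw [h5, Set.ncard_image_of_injective _ g.injective, cnt, ← Set.ncard_coe_finset]
    congr 1
    ext v
    simp
  -- three mutually commuting members
  have hex : ∀ i : Fin 5, ∃ x ∈ EE D L d, g (Pi.single i.succ 1) = f x ∨ g (Pi.single i.succ 1) = - f x := by
    intro i
    apply h4
    rw [hg]
    exact sum_single c i
  choose x hx hfx using hex
  have hB0 : ∀ i j : Fin 5, i ≠ j → B (g (Pi.single i.succ 1)) (g (Pi.single j.succ 1)) = 0 := by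
    intro i j hij
    have h5 := F.norm_add (g (Pi.single i.succ 1)) (g (Pi.single j.succ 1))
    rw [← map_add g, hg, hg, hg, sum_single, sum_single, sum_single_add c i j hij] at h5
    revert h5
    generalize B (g (Pi.single i.succ 1)) (g (Pi.single j.succ 1)) = b
    revert b
    decide
  have hBf : ∀ i j : Fin 5, i ≠ j → B (f (x i)) (f (x j)) = 0 := by
    intro i j hij
    have h5 := hB0 i j hij
    rcases hfx i with h6 | h6 <;> rcases hfx j with h7 | h7 <;> rw [h6, h7] at h5
    · exact h5
    · rw [map_neg] at h5; exact neg_eq_zero.1 h5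
    · rw [map_neg, LinearMap.neg_apply] at h5; exact neg_eq_zero.1 h5
    · rw [map_neg, map_neg, LinearMap.neg_apply, neg_neg] at h5; exact h5
  have hne : Function.Injective x := by
    intro i j hij
    by_contra hne
    have h5 := hBf i j hne
    rw [hij, h1 _ (hx j)] at h5
    exact absurd h5 (by decide)
  have h5 := pow_dvd_ncard C hd (A := Set.range x) (k := 1)
    (by rintro _ ⟨i, rfl⟩; exact hx i)
    (by
      rintro _ ⟨i, rfl⟩ _ ⟨j, rfl⟩
      by_cases hij : i = j
      · rw [hij]
      · exact (h2 _ (hx i) _ (hx j)).2 (Or.inr (hBf i j hij)))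
    (by
      rw [← Set.image_univ, Set.ncard_image_of_injective _ hne, Set.ncard_univ]
      simp)
  rw [hcard] at hn
  have h6 : c = 1 ∨ c = 2 := by
    revert hc
    clear * -
    revert c
    decide
  rcases h6 with rfl | rfl
  · rw [cnt_one] at hn
    omega
  · rw [cnt_two] at hn
    omega

end Cfsg.Agent.H807.IdR
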