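import Cfsg.Agent.H807.CommEquiv
import Cfsg.Agent.H807.IdO
import Cfsg.Agent.H807.IdR
import Cfsg.Agent.SporadicStructure.OrthTwo
import Cfsg.Agent.LieClassical.OrthFinite

/-!
# Identification of the simple group `L` for the blocks of types `O` and `R`
-/

set_option autoImplicit false

namespace Cfsg.Agent.H807.Ident

open Cfsg Cfsg.Agent.Fischer480.Defs Cfsg.Agent.SporadicStructure.FischerSpace
open Cfsg.Agent.H807.Tri Cfsg.Agent.H807.Excl Cfsg.Agent.H807.CommEquiv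
open Cfsg.Agent.LieClassical.OrthCore

universe u

variable {G : Type u} [Group G] {D : Set G} {L : Subgroup G}

theorem center_eq_bot (C : Cfg D L) {d : G} : Subgroup.center ↥(HH L d) = ⊥ := by
  rw [eq_bot_iff]
  intro z hz
  rw [Subgroup.mem_bot]
  apply Subtype.ext
  apply C.cent
  intro x hx
  exact (congrArg Subtype.val ((Subgroup.mem_center_iff.1 hz) ⟨x, L_le_HH L d hx⟩)).symm

/-- `H = H ⧸ Z(H)` -/
noncomputable def quot (C : Cfg D L) (d : G) : ↥(HH L d) ≃* (↥(HH L d) ⧸ Subgroup.center ↥(HH L d)) :=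
  ((QuotientGroup.quotientMulEquivOfEq (center_eq_bot C)).trans QuotientGroup.quotientBot).symm

theorem quot_apply (C : Cfg D L) (d : G) (x : ↥(HH L d)) : quot C d x = QuotientGroup.mk x := by
  rw [quot, MulEquiv.symm_apply_eq]
  rfl

/-- the commutator subgroup is `L` -/
noncomputable def commEquiv (C : Cfg D L) {d : G} (hd : d ∈ D) : ↥(commutator ↥(HH L d)) ≃* ↥L :=
  (MulEquiv.subgroupCongr (C.commutator_eq hd)).trans (Subgroup.subgroupOfEquivOfLe (L_le_HH L d))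

theorem isSimple_comm (C : Cfg D L) {d : G} (hd : d ∈ D) : IsSimpleGroup ↥(commutator ↥(HH L d)) := by
  have := C.simple
  exact (commEquiv C hd).isSimpleGroup

theorem na_comm (C : Cfg D L) {d : G} (hd : d ∈ D) :
    ∃ x y : ↥(commutator ↥(HH L d)), x * y ≠ y * x := by
  obtain ⟨x, hx, y, hy, hxy⟩ := C.na
  refine ⟨(commEquiv C hd).symm ⟨x, hx⟩, (commEquiv C hd).symm ⟨y, hy⟩, fun h => hxy ?_⟩
  rw [← map_mul, ← map_mul] at h
  exact congrArg Subtype.val ((commEquiv C hd).symm.injective h)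

/-- **type `R`** -/
theorem pomega_of_isR [Finite G] (C : Cfg D L) {d : G} (hd : d ∈ D) {n : ℕ} (hn : 6 ≤ n)
    (h : IsR n (EE D L d)) : ∃ Q : QuadraticForm (ZMod 3) (Fin n → ZMod 3), Nondeg Q ∧
      Nonempty (↥L ≃* POmega (ZMod 3) (⇑Q)) := by
  obtain ⟨B, f, hs, hB, h1, h2, h3, h4⟩ := h
  have F : Cfsg.Agent.Fischer3.Orth3Basic.Form B := ⟨fun v w => hs.eq v w, fun v hv => hB.1 v hv⟩
  have fd := fdata_of_class (C.cls hd)
  obtain ⟨e, -⟩ := Cfsg.Agent.Fischer919.OmegaR.exists_equiv_Gam F fd hn h1 h2 h3 h4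
  have hsep : Nondeg (Cfsg.Agent.Fischer919.OmegaR.QB B) := by
    intro x hx
    apply F.nondeg
    intro y
    have h5 := hx y
    rw [Cfsg.Agent.Fischer919.OmegaR.polar_QB F] at h5
    have h6 : ∀ a : ZMod 3, 2 * a = 0 → a = 0 := by decide
    exact h6 _ h5
  have hO : IsSimpleGroup (POmega (ZMod 3) (⇑(Cfsg.Agent.Fischer919.OmegaR.QB B))) := by
    apply Cfsg.Agent.LieClassical.OrthFinite.isSimpleGroup_POmega hsep
    rw [Fintype.card_fin]
    omega
  obtain ⟨k⟩ := comm_equiv (Cfsg.Agent.Fischer919.OmegaR.Gam B) Cfsg.Agent.Fischer919.OmegaR.Gam_normal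
    ((quot C d).trans e) (isSimple_comm C hd) (na_comm C hd) hO
  exact ⟨_, hsep, ⟨(commEquiv C hd).symm.trans k⟩⟩

open Cfsg.Agent.SporadicStructure.OrthTwo Cfsg.Agent.ClassicalGeometry.Reflection
  Cfsg.Agent.Fischer891.OUp in
theorem refl_injective {n : ℕ} {Q : QuadraticForm (ZMod 2) (Fin n → ZMod 2)} (hQ : Nondeg Q)
    {v w : Fin n → ZMod 2} (hv : Q v ≠ 0) (hw : Q w ≠ 0) (h : reflIso Q v hv = reflIso Q w hw) : v = w := by
  have hv0 : v ≠ 0 := by rintro rfl; exact hv (QuadraticMap.map_zero Q)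
  obtain ⟨x, hx⟩ : ∃ x, QuadraticMap.polar Q v x ≠ 0 := by
    by_contra hcon
    push Not at hcon
    exact hv0 (hQ v hcon)
  have h1 := act_refl Q v hv x
  rw [h, act_refl, eq_one_of_ne_zero hx, one_smul] at h1
  have h2 := add_left_cancel h1
  rcases zero_or_one (QuadraticMap.polar Q w x) with h3 | h3
  · rw [h3, zero_smul] at h2
    exact absurd h2.symm hv0
  · rw [h3, one_smul] at h2
    exact h2.symm

open Cfsg.Agent.SporadicStructure.OrthTwo Cfsg.Agent.ClassicalGeometry.Reflection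
  Cfsg.Agent.Fischer891.OUp Cfsg.Agent.ThreeTransPolar.Basic in
/-- **type `O`** -/
theorem pomega_of_isO [Finite G] (C : Cfg D L) {d : G} (hd : d ∈ D) {n : ℕ} (hn : 3 ≤ n)
    (h : IsO n (EE D L d)) : ∃ Q : QuadraticForm (ZMod 2) (Fin (2 * n) → ZMod 2), Nondeg Q ∧
      Nonempty (↥L ≃* POmega (ZMod 2) (⇑Q)) := by
  obtain ⟨Q, f, K⟩ := isO_iff.1 h
  have hsep : Nondeg Q := K.nondeg
  have hcard : 5 ≤ Fintype.card (Fin (2 * n)) := by rw [Fintype.card_fin]; omega
  have fd := fdata_of_class (C.cls hd)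
  have hcl := isThreeTranspositionClass (Q := Q) hsep hcard
  have fd2 := fdata_of_class hcl
  set D₂ : Set ↥(Cfsg.isometryGroup (ZMod 2) (⇑Q)) := {g : ↥(Cfsg.isometryGroup (ZMod 2) (⇑Q)) |
      (((g : Matrix.GeneralLinearGroup (Fin (2 * n)) (ZMod 2)) : Matrix (Fin (2 * n)) (Fin (2 * n)) (ZMod 2)) - 1).rank = 1}
    with hD₂
  have hne : ∀ a ∈ EE D L d, Q (f a) ≠ 0 := by
    intro a ha
    rw [K.one a ha]
    exact one_ne_zero
  let φ₀ : ↥(EE D L d) → ↥D₂ := fun a =>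
    ⟨reflIso Q (f a) (hne a a.2), (rank_one_iff hsep _).2 ⟨_, hne a a.2, rfl⟩⟩
  have hbij : Function.Bijective φ₀ := by
    constructor
    · intro a b hab
      have h5 : reflIso Q (f a) (hne a a.2) = reflIso Q (f b) (hne b b.2) := congrArg Subtype.val hab
      exact Subtype.ext (K.inj _ a.2 _ b.2 (refl_injective hsep _ _ h5))
    · rintro ⟨g, hg⟩
      obtain ⟨v, hv, rfl⟩ := (rank_one_iff hsep g).1 hg
      obtain ⟨a, ha, hav⟩ := K.surj v (eq_one_of_ne_zero hv)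
      subst hav
      exact ⟨⟨a, ha⟩, rfl⟩
  obtain ⟨e, -⟩ := Cfsg.Agent.Fischer920.RackIso.exists_equiv_quotient (D₁ := EE D L d) (D₂ := D₂)
    fd.conj fd2.conj fd.gen fd2.gen (Equiv.ofBijective φ₀ hbij) (by
      intro a b
      have h6 : f ((a : ↥(HH L d)) * b * (a : ↥(HH L d))⁻¹) =
          act Q (reflIso Q (f a) (hne a a.2)) (f b) := by
        rw [act_refl]
        have h7 := IdO.f_conj fd K hn a.2 b.2
        rw [cj_def] at h7
        rw [h7, Cfsg.Agent.Fischer891.FinalO.tv_apply, QuadraticMap.polar_comm]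
      have h8 : Q (act Q (reflIso Q (f a) (hne a a.2)) (f b)) ≠ 0 := by
        rw [← h6]
        exact hne _ (fd.conj _ _ b.2)
      show reflIso Q (f ((a : ↥(HH L d)) * b * (a : ↥(HH L d))⁻¹)) (hne _ (fd.conj _ _ b.2)) =
        reflIso Q (f a) (hne a a.2) * reflIso Q (f b) (hne b b.2) * (reflIso Q (f a) (hne a a.2))⁻¹
      rw [conj_refl _ _ (hne b b.2) h8]
      congr 1)
  have hO : IsSimpleGroup (POmega (ZMod 2) (⇑Q)) :=
    Cfsg.Agent.LieClassical.OrthFinite.isSimpleGroup_POmega hsep hcard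
  obtain ⟨e'⟩ := Cfsg.Agent.Fischer919.CentralQuot.equiv_quotient_center
    (Subgroup.topEquiv (G := ↥(Cfsg.isometryGroup (ZMod 2) (⇑Q)))).symm
  obtain ⟨k⟩ := comm_equiv (⊤ : Subgroup ↥(Cfsg.isometryGroup (ZMod 2) (⇑Q))) inferInstance
    (((quot C d).trans e).trans e') (isSimple_comm C hd) (na_comm C hd) hO
  exact ⟨_, hsep, ⟨(commEquiv C hd).symm.trans k⟩⟩

end Cfsg.Agent.H807.Ident
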