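import Mathlib
import Cfsg.Agent.H805.Width

/-!
# Orbits of an elementary abelian 2-group acting by conjugation
-/

set_option autoImplicit false

namespace Cfsg.Agent.H807.Orb

universe u

variable {H : Type u} [Group H]

/-- a subgroup acting by conjugation on a conjugation-invariant set -/
@[reducible] def conjAction {E : Set H} (hE : ∀ g : H, ∀ x ∈ E, g * x * g⁻¹ ∈ E) (T : Subgroup H) :
    MulAction T E where
  smul t x := ⟨(t : H) * x * (t : H)⁻¹, hE t x x.2⟩
  one_smul x := Subtype.ext (show (1 : H) * x * (1 : H)⁻¹ = x by group)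
  mul_smul s t x := Subtype.ext (show ((s : H) * t) * x * ((s : H) * t)⁻¹ =
    s * (t * x * (t : H)⁻¹) * (s : H)⁻¹ by group)

/-- **If the quotients of a family of `w > 2 ^ k` commuting elements of order two move every member of `E`, then
`2 ^ (k + 1)` divides `|E|`.** -/
theorem pow_dvd [Finite H] {E : Set H} (hE : ∀ g : H, ∀ x ∈ E, g * x * g⁻¹ ∈ E) {w k : ℕ}
    (τ : Fin w → H) (hfree : ∀ i j, i ≠ j → ∀ a ∈ E, ¬ Commute a ((τ i)⁻¹ * τ j))
    (hcomm : ∀ i j, Commute (τ i) (τ j)) (hsq : ∀ i, τ i * τ i = 1) (hw : 2 ^ k < w) :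
    2 ^ (k + 1) ∣ E.ncard := by
  have h2 : Fact (Nat.Prime 2) := ⟨Nat.prime_two⟩
  let T : Subgroup H := Subgroup.closure (Set.range τ)
  have hT : IsPGroup 2 T := H805.Width.isPGroup_closure
    (by rintro _ ⟨i, rfl⟩; exact hsq i) (by rintro _ ⟨i, rfl⟩ _ ⟨j, rfl⟩; exact hcomm i j)
  letI : MulAction T E := conjAction hE T
  have hfin : Finite E := inferInstance
  have horb : ∀ a : E, 2 ^ (k + 1) ∣ Nat.card (MulAction.orbit T a) := by
    intro a
    obtain ⟨n, hn⟩ := hT.card_orbit a
    have hle : w ≤ Nat.card (MulAction.orbit T a) := by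
      have hinj : Function.Injective (fun i : Fin w =>
          (⟨(⟨τ i, Subgroup.subset_closure ⟨i, rfl⟩⟩ : T) • a, ⟨_, rfl⟩⟩ : MulAction.orbit T a)) := by
        intro i j hij
        by_contra hne
        apply hfree i j hne a a.2
        have h3 : τ i * (a : H) * (τ i)⁻¹ = τ j * a * (τ j)⁻¹ :=
          congrArg (fun z : MulAction.orbit T a => ((z : E) : H)) hij
        show (a : H) * ((τ i)⁻¹ * τ j) = (τ i)⁻¹ * τ j * a
        calc (a : H) * ((τ i)⁻¹ * τ j) = (τ i)⁻¹ * (τ i * a * (τ i)⁻¹) * τ j := by group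
          _ = (τ i)⁻¹ * (τ j * a * (τ j)⁻¹) * τ j := by rw [h3]
          _ = (τ i)⁻¹ * τ j * a := by group
      have := Nat.card_le_card_of_injective _ hinj
      simpa using this
    rw [hn] at hle ⊢
    apply pow_dvd_pow
    by_contra hlt
    have h4 : n ≤ k := by omega
    have h5 : 2 ^ n ≤ 2 ^ k := Nat.pow_le_pow_right (by norm_num) h4
    omega
  have hcard : E.ncard = Nat.card E := rfl
  have : Fintype (Quotient (MulAction.orbitRel T E)) := Fintype.ofFinite _
  rw [hcard, Nat.card_congr (MulAction.selfEquivSigmaOrbits T E), Nat.card_sigma]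
  apply Finset.dvd_sum
  intro ω _
  exact horb _

end Cfsg.Agent.H807.Orb
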