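import Cfsg.Agent.H807.Tri
import Cfsg.Agent.Lib.HallTriple
import Cfsg.Agent.S0444

/-!
# The quotient `G ⧸ L`
-/

set_option autoImplicit false

namespace Cfsg.Agent.H807.Quot

open Cfsg Cfsg.Agent.SporadicB.ThreeTrans Cfsg.Agent.ThreeTrans375.Basic Cfsg.Agent.H805.Base
  Cfsg.Agent.H805.Comp Cfsg.Agent.H805.Index Cfsg.Agent.H807.Tri

universe u

variable {G : Type u} [Group G] {D : Set G} {L : Subgroup G}

theorem mem_iff [L.Normal] (x : G) : x ∈ L ↔ QuotientGroup.mk' L x = 1 := by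
  rw [← MonoidHom.mem_ker, QuotientGroup.ker_mk']

/-- the images of the members of `D` -/
def T (D : Set G) (L : Subgroup G) [L.Normal] : Set (G ⧸ L) := QuotientGroup.mk' L '' D

theorem T_set (C : Cfg D L) [L.Normal] : IsThreeTranspositionSet (T D L) := by
  constructor
  · rintro _ ⟨x, hx, rfl⟩
    apply orderOf_eq_prime
    · rw [pow_two, ← map_mul, mul_self C.hE hx, map_one]
    · intro h
      exact C.not_mem hx ((mem_iff x).2 h)
  · rintro _ ⟨x, hx, rfl⟩ _ ⟨y, hy, rfl⟩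
    rw [← map_mul, ← map_pow, ← map_pow]
    rcases C.hE.2 x hx y hy with h | h
    · left; rw [h, map_one]
    · right; rw [h, map_one]

/-- products of order dividing three -/
theorem T_three [Finite G] (C : Cfg D L) [L.Normal] : ∀ a ∈ T D L, ∀ b ∈ T D L, (a * b) ^ 3 = 1 := by
  rintro _ ⟨x, hx, rfl⟩ _ ⟨y, hy, rfl⟩
  rcases C.hE.2 x hx y hy with h | h
  · have h1 := C.mul_mem_of_commute hx hy (H805.Width.commute_of_sq C.hE hx hy h)
    rw [← map_mul, (mem_iff _).1 h1, one_pow]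
  · rw [← map_mul, ← map_pow, h, map_one]

/-- the order of `G ⧸ L` divides `2 * 3 ^ k` -/
theorem card_dvd [Finite G] (C : Cfg D L) [L.Normal] : ∃ k, Nat.card (G ⧸ L) ∣ 2 * 3 ^ k := by
  have : Fact (Nat.Prime 3) := ⟨Nat.prime_three⟩
  have hconj : ∀ g : G ⧸ L, ∀ a ∈ T D L, g * a * g⁻¹ ∈ T D L := by
    rintro g _ ⟨x, hx, rfl⟩
    obtain ⟨g, rfl⟩ := QuotientGroup.mk'_surjective L g
    exact ⟨g * x * g⁻¹, C.hC g x hx, by rw [map_mul, map_mul, map_inv]⟩
  have hp := Lib.HallTriple.isPGroup_closure_mul_of_normal (T := T D L)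
    (fun a ha => mul_self (T_set C) ha) hconj (T_three C)
  set P : Subgroup (G ⧸ L) := Subgroup.closure {x : G ⧸ L | ∃ a ∈ T D L, ∃ b ∈ T D L, x = a * b} with hP
  have hn : P.Normal := by
    refine ⟨fun x hx g => ?_⟩
    induction hx using Subgroup.closure_induction with
    | mem x hx =>
      obtain ⟨a, ha, b, hb, rfl⟩ := hx
      exact Subgroup.subset_closure ⟨g * a * g⁻¹, hconj g a ha, g * b * g⁻¹, hconj g b hb, by group⟩
    | one => rw [mul_one, mul_inv_cancel]; exact P.one_mem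
    | mul x y _ _ hx hy =>
      have : g * (x * y) * g⁻¹ = (g * x * g⁻¹) * (g * y * g⁻¹) := by group
      rw [this]
      exact P.mul_mem hx hy
    | inv x _ hx =>
      have : g * x⁻¹ * g⁻¹ = (g * x * g⁻¹)⁻¹ := by group
      rw [this]
      exact P.inv_mem hx
  have hi : (P.comap (QuotientGroup.mk' L)).index ≤ 2 := by
    apply index_le_two C.hD inferInstance
    intro x hx y hy
    rw [Subgroup.mem_comap, map_mul]
    exact Subgroup.subset_closure ⟨_, ⟨x, hx, rfl⟩, _, ⟨y, hy, rfl⟩, rfl⟩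
  rw [Subgroup.index_comap_of_surjective _ (QuotientGroup.mk'_surjective L)] at hi
  obtain ⟨k, hk⟩ := (IsPGroup.iff_card).1 hp
  refine ⟨k, ?_⟩
  have h1 := P.index_mul_card
  rw [hk] at h1
  rw [← h1]
  have h2 : P.index ≠ 0 := Subgroup.index_ne_zero_of_finite
  rcases (by omega : P.index = 1 ∨ P.index = 2) with h3 | h3
  · rw [h3]; exact ⟨2, by ring⟩
  · rw [h3]

/-- there is a symmetric group of degree three -/
theorem exists_sub [Finite G] (C : Cfg D L) [L.Normal] :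
    ∃ A : Subgroup (G ⧸ L), Nonempty (↥A ≃* Equiv.Perm (Fin 3)) := by
  obtain ⟨x, hx, y, hy, hxy⟩ := C.out
  refine ⟨_, Cfsg.Agent.S0444.result (T_set C) ⟨x, hx, rfl⟩ ⟨y, hy, rfl⟩ ?_⟩
  intro hc
  have h1 := T_three C _ ⟨x, hx, rfl⟩ _ ⟨y, hy, rfl⟩
  have h2 : (QuotientGroup.mk' L x * QuotientGroup.mk' L y) ^ 2 = 1 := by
    rw [hc.mul_pow, pow_two, pow_two, mul_self (T_set C) ⟨x, hx, rfl⟩, mul_self (T_set C) ⟨y, hy, rfl⟩,
      one_mul]
  apply hxy
  rw [mem_iff, map_mul]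
  rw [pow_succ, h2, one_mul] at h1
  exact h1

theorem card_perm3 : Nat.card (Equiv.Perm (Fin 3)) = 6 := by
  rw [Nat.card_perm, Nat.card_fin]
  rfl

theorem six_dvd [Finite G] (C : Cfg D L) [L.Normal] : 6 ∣ Nat.card (G ⧸ L) := by
  obtain ⟨A, ⟨e⟩⟩ := exists_sub C
  have h1 := A.card_subgroup_dvd_card
  rw [Nat.card_congr e.toEquiv, card_perm3] at h1
  exact h1

theorem equiv_of_card [Finite G] (C : Cfg D L) [L.Normal] (h : Nat.card (G ⧸ L) = 6) :
    Nonempty (G ⧸ L ≃* Equiv.Perm (Fin 3)) := by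
  obtain ⟨A, ⟨e⟩⟩ := exists_sub C
  have hA : A = ⊤ := by
    apply Subgroup.eq_top_of_card_eq
    rw [Nat.card_congr e.toEquiv, card_perm3, h]
  subst hA
  exact ⟨Subgroup.topEquiv.symm.trans e⟩

/-- `G` embeds in the automorphism group of `L` -/
theorem card_dvd_aut [Finite G] (C : Cfg D L) : Nat.card G ∣ Nat.card (MulAut ↥L) := by
  have hn := C.hLn
  have hinj : Function.Injective (MulAut.conjNormal : G →* MulAut ↥L) := by
    rw [injective_iff_map_eq_one]
    intro g hg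
    apply C.cent
    intro x hx
    have h1 := congrArg (fun φ : MulAut ↥L => ((φ ⟨x, hx⟩ : ↥L) : G)) hg
    have h2 : g * x * g⁻¹ = x := h1
    rw [mul_inv_eq_iff_eq_mul] at h2
    exact h2
  exact Subgroup.card_dvd_of_injective _ hinj

/-- consequence for the quotient -/
theorem card_quot_dvd [Finite G] (C : Cfg D L) [L.Normal] {c : ℕ}
    (h : Nat.card (MulAut ↥L) = c * Nat.card ↥L) : Nat.card (G ⧸ L) ∣ c := by
  have h1 := card_dvd_aut C
  rw [h, Subgroup.card_eq_card_quotient_mul_card_subgroup L] at h1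
  exact Nat.dvd_of_mul_dvd_mul_right Nat.card_pos h1

end Cfsg.Agent.H807.Quot
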